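import Cfsg.Agent.Lib.Char.TIExceptional.Setup

/-!
# Multiplicities on the centralizer and their Gram matrix

`mu h A ξ l` is the multiplicity of `l × A` in the restriction of `ξ` to `P × V`, and `cf` the
difference of `mu` at `l` and at the trivial character of `P`.
-/

set_option autoImplicit false

open scoped ComplexConjugate

namespace CfsgLib.TIExceptional

open Cfsg CfsgLib.Char CfsgLib.Blocks CfsgLib.Blocks.PrimeSylow

variable {G : Type*} [Group G] [Fintype G] {p : ℕ} {P V : Subgroup G}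

/-- Conjugation by an element of the normalizer, on `P`. -/
noncomputable def conjN (P : Subgroup G) {n : G} (hn : n ∈ Subgroup.normalizer (P : Set G)) : P ≃* P where
  toFun x := ⟨n * x * n⁻¹, (Subgroup.mem_normalizer_iff.1 hn x).1 x.2⟩
  invFun x := ⟨n⁻¹ * x * n, (Subgroup.mem_normalizer_iff''.1 hn x).1 x.2⟩
  left_inv x := by ext; simp [mul_assoc]
  right_inv x := by ext; simp [mul_assoc]
  map_mul' a b := by ext; simp [mul_assoc]

namespace TISetup

variable (h : TISetup p P V)
include h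

/-- Conjugation by an element of the normalizer, on `V`. -/
noncomputable def conjV {n : G} (hn : n ∈ Subgroup.normalizer (P : Set G)) : V ≃* V where
  toFun v := ⟨n * v * n⁻¹, h.conj_mem hn v.2⟩
  invFun v := ⟨n⁻¹ * v * n, by simpa using h.conj_mem (inv_mem hn) v.2⟩
  left_inv v := by ext; simp [mul_assoc]
  right_inv v := by ext; simp [mul_assoc]
  map_mul' a b := by ext; simp [mul_assoc]

theorem cjP_apply (μ : P → ℂ) {g : G} (hg : g ∈ Subgroup.normalizer (P : Set G)) (x : P) :
    cjFun μ g x = μ (conjN P hg x) :=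
  extendByZero_coe μ (conjN P hg x)

theorem cjV_apply (η : V → ℂ) {g : G} (hg : g ∈ Subgroup.normalizer (P : Set G)) (v : V) :
    cjFun η g v = η (h.conjV hg v) :=
  extendByZero_coe η (h.conjV hg v)

theorem cjP_mul (μ : P → ℂ) {a b : G} (ha : a ∈ Subgroup.normalizer (P : Set G))
    (hb : b ∈ Subgroup.normalizer (P : Set G)) : cjFun (cjFun μ a) b = cjFun μ (a * b) := by
  funext x
  rw [h.cjP_apply _ hb, h.cjP_apply _ ha, h.cjP_apply _ (mul_mem ha hb)]
  congr 1
  ext
  simp [conjN, mul_assoc]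

theorem cjV_mul (η : V → ℂ) {a b : G} (ha : a ∈ Subgroup.normalizer (P : Set G))
    (hb : b ∈ Subgroup.normalizer (P : Set G)) : cjFun (cjFun η a) b = cjFun η (a * b) := by
  funext x
  rw [h.cjV_apply _ hb, h.cjV_apply _ ha, h.cjV_apply _ (mul_mem ha hb)]
  congr 1
  ext
  simp [conjV, mul_assoc]

theorem cjP_one (μ : P → ℂ) : cjFun μ (1 : G) = μ := funext fun v => by
  simp [cjFun, extendByZero_coe]

theorem cjV_one (η : V → ℂ) : cjFun η (1 : G) = η := funext fun v => by
  simp [cjFun, extendByZero_coe]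

theorem isIrr_cjP (μ : IrrCharacter P) {g : G} (hg : g ∈ Subgroup.normalizer (P : Set G)) :
    IsIrrCharacter P (cjFun (μ : P → ℂ) g) := by
  rw [show cjFun (μ : P → ℂ) g = fun x => (μ : P → ℂ) (conjN P hg x) from
    funext (h.cjP_apply _ hg)]
  exact IsIrr.comp_surjective (conjN P hg).toMonoidHom (conjN P hg).surjective μ.2

theorem isIrr_cjV (η : IrrCharacter V) {g : G} (hg : g ∈ Subgroup.normalizer (P : Set G)) :
    IsIrrCharacter V (cjFun (η : V → ℂ) g) := by
  rw [show cjFun (η : V → ℂ) g = fun x => (η : V → ℂ) (h.conjV hg x) from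
    funext (h.cjV_apply _ hg)]
  exact IsIrr.comp_surjective (h.conjV hg).toMonoidHom (h.conjV hg).surjective η.2

theorem cjV_of_centralizer {η : V → ℂ} (hη : IsClassFunction V η) {c : G}
    (hc : c ∈ Subgroup.centralizer (P : Set G)) : cjFun η c = η := by
  funext v
  rw [h.cjV_apply _ (h.le_normalizer_centralizer hc)]
  obtain ⟨x, hx, w, hw, rfl⟩ := h.exists_mul hc
  rw [show h.conjV (h.le_normalizer_centralizer hc) v = ⟨w, hw⟩ * v * ⟨w, hw⟩⁻¹ from Subtype.ext (by
    show x * w * v * (x * w)⁻¹ = w * v * w⁻¹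
    rw [show x * w * (v : G) * (x * w)⁻¹ = x * (w * v * w⁻¹) * x⁻¹ by group,
      (h.commute hx (V.mul_mem (V.mul_mem hw v.2) (V.inv_mem hw))).eq, mul_inv_cancel_right])]
  exact hη v ⟨w, hw⟩

theorem dval_conj [Fintype V] {χ : G → ℂ} (hχ : IsClassFunction G χ) (x : G) (η : V → ℂ) {n : G}
    (hn : n ∈ Subgroup.normalizer (P : Set G)) :
    dval χ (n * x * n⁻¹) η = dval χ x (cjFun η n) := by
  simp only [dval, classInner]
  congr 1
  refine (Fintype.sum_equiv (h.conjV hn).toEquiv _ _ fun v => ?_).symm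
  rw [h.cjV_apply _ hn]
  show _ = χ (n * x * n⁻¹ * (n * v * n⁻¹)) * _
  rw [show n * x * n⁻¹ * (n * v * n⁻¹) = n * (x * v) * n⁻¹ by group, hχ]
  rfl

theorem isClassFunction_P (f : P → ℂ) : IsClassFunction P f := fun a b => by
  rw [show b * a = a * b from Subtype.ext (h.mul_comm_P b.2 a.2), mul_inv_cancel_right]

theorem apply_eq_sum [Fintype V] [Fintype (IrrCharacter V)] {χ : G → ℂ}
    (hχ : IsClassFunction G χ) {x : G} (hx : x ∈ P) (v : V) :
    χ (x * v) = ∑ η : IrrCharacter V, dval χ x (η : V → ℂ) * (η : V → ℂ) v := by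
  have hcf : IsClassFunction V (fun v : V => χ (x * v)) := fun a b => by
    show χ (x * ((b * a * b⁻¹ : V) : G)) = χ (x * a)
    rw [Subgroup.coe_mul, Subgroup.coe_mul, Subgroup.coe_inv, ← mul_assoc, ← mul_assoc,
      (h.commute hx b.2).eq, show (b : G) * x * a * (b : G)⁻¹ = b * (x * a) * (b : G)⁻¹ by group, hχ]
  exact classFunction_apply_eq_sum hcf v

/-- The multiplication map `P × V → G`. -/
noncomputable def mulHom : P × V →* G where
  toFun q := (q.1 : G) * q.2
  map_one' := by simp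
  map_mul' a b := by
    simp only [Prod.fst_mul, Prod.snd_mul, Subgroup.coe_mul]
    rw [mul_assoc, mul_assoc, ← mul_assoc (b.1 : G), (h.commute b.1.2 a.2.2).eq, mul_assoc]

theorem exists_mult [Fintype P] [Fintype V] {χ : G → ℂ} (hχ : IsCharacter G χ) {η : V → ℂ}
    (hη : IsCharacter V η) {l : P → ℂ} (hl : IsCharacter P l) :
    ∃ m : ℕ, classInner (fun x : P => dval χ (x : G) η) l = m := by
  obtain ⟨m, hm⟩ := IsChar.classInner_eq_natCast (Char.IsChar.comp h.mulHom hχ)
    (Char.IsChar.mul (Char.IsChar.comp (MonoidHom.fst P V) hl) (Char.IsChar.comp (MonoidHom.snd P V) hη))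
  refine ⟨m, hm ▸ ?_⟩
  simp only [classInner, dval, Pi.mul_apply, MonoidHom.coe_fst, MonoidHom.coe_snd, map_mul,
    Nat.card_prod, Nat.cast_mul, mul_inv, Fintype.sum_prod_type, Finset.mul_sum, Finset.sum_mul]
  refine Finset.sum_congr rfl fun x _ => Finset.sum_congr rfl fun v _ => ?_
  show _ = _ * ((χ ((x : G) * v)) * _)
  ring

/-- `C(P) ≅ P × V`. -/
noncomputable def centEquiv : P × V ≃ Subgroup.centralizer (P : Set G) :=
  Equiv.ofBijective
    (fun q => ⟨(q.1 : G) * q.2, mul_mem (h.le_centralizer q.1.2) (h.V_le q.2.2)⟩)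
    ⟨fun a b e => by
      obtain ⟨e1, e2⟩ := h.mul_inj a.1.2 b.1.2 a.2.2 b.2.2 (congrArg Subtype.val e)
      exact Prod.ext (Subtype.ext e1) (Subtype.ext e2),
    fun c => by
      obtain ⟨x, hx, v, hv, e⟩ := h.exists_mul c.2
      exact ⟨(⟨x, hx⟩, ⟨v, hv⟩), Subtype.ext e⟩⟩

theorem card_centralizer :
    Nat.card (Subgroup.centralizer (P : Set G)) = Nat.card P * Nat.card V := by
  rw [← Nat.card_congr h.centEquiv, Nat.card_prod]

/-- The inertial group of `η` in the normalizer. -/
noncomputable def inertiaT (η : V → ℂ) : Subgroup G where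
  carrier := {g | g ∈ Subgroup.normalizer (P : Set G) ∧ cjFun η g = η}
  one_mem' := ⟨one_mem _, h.cjV_one η⟩
  mul_mem' := fun ha hb => ⟨mul_mem ha.1 hb.1, by rw [← h.cjV_mul _ ha.1 hb.1, ha.2, hb.2]⟩
  inv_mem' := fun {a} ha => ⟨inv_mem ha.1, by
    conv_lhs => rw [← ha.2]
    rw [h.cjV_mul _ ha.1 (inv_mem ha.1), mul_inv_cancel, h.cjV_one]⟩

/-- The inertial index. -/
noncomputable def eIdx (η : V → ℂ) : ℕ :=
  (Subgroup.centralizer (P : Set G)).relIndex (h.inertiaT η)

theorem centralizer_le_inertiaT (η : IrrCharacter V) :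
    Subgroup.centralizer (P : Set G) ≤ h.inertiaT (η : V → ℂ) := fun _ hc =>
  ⟨h.le_normalizer_centralizer hc, h.cjV_of_centralizer (Char.IsIrr.isClassFunction η.2) hc⟩

theorem card_inertiaT (η : IrrCharacter V) :
    Nat.card (h.inertiaT (η : V → ℂ)) = h.eIdx (η : V → ℂ) * (Nat.card P * Nat.card V) := by
  rw [← h.card_centralizer, eIdx]
  have := Subgroup.relIndex_mul_relIndex ⊥ _ _ bot_le (h.centralizer_le_inertiaT η)
  rw [Subgroup.relIndex_bot_left, Subgroup.relIndex_bot_left] at this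
  rw [← this, mul_comm]

theorem eIdx_pos (η : IrrCharacter V) : 0 < h.eIdx (η : V → ℂ) := by
  rcases Nat.eq_zero_or_pos (h.eIdx (η : V → ℂ)) with e | e
  · have := h.card_inertiaT η
    rw [e, zero_mul] at this
    exact absurd this Nat.card_pos.ne'
  · exact e

theorem eIdx_dvd (η : IrrCharacter V) :
    h.eIdx (η : V → ℂ) ∣
      (Subgroup.centralizer (P : Set G)).relIndex (Subgroup.normalizer (P : Set G)) :=
  Dvd.intro _ (Subgroup.relIndex_mul_relIndex _ _ _ (h.centralizer_le_inertiaT η) fun _ hg => hg.1)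

theorem eIdx_trivChar :
    h.eIdx ((trivChar V : IrrCharacter V) : V → ℂ) =
      (Subgroup.centralizer (P : Set G)).relIndex (Subgroup.normalizer (P : Set G)) := by
  rw [eIdx]
  congr 1
  ext g
  refine ⟨fun hg => hg.1, fun hg => ⟨hg, funext fun v => ?_⟩⟩
  rw [h.cjV_apply _ hg, trivChar_apply, trivChar_apply]

/-- `l` is conjugate to `μ` under `T`. -/
def Rel (η : V → ℂ) (l μ : IrrCharacter P) : Prop :=
  ∃ g ∈ h.inertiaT η, cjFun (μ : P → ℂ) g = (l : P → ℂ)

theorem rel_equiv (η : V → ℂ) : Equivalence (h.Rel η) := by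
  refine ⟨fun μ => ⟨1, one_mem _, h.cjP_one _⟩, ?_, ?_⟩
  · rintro l μ ⟨g, hg, e⟩
    refine ⟨g⁻¹, inv_mem hg, ?_⟩
    rw [← e, h.cjP_mul _ hg.1 (inv_mem hg.1), mul_inv_cancel, h.cjP_one]
  · rintro l μ ν ⟨g, hg, e⟩ ⟨g', hg', e'⟩
    exact ⟨g' * g, mul_mem hg' hg, by rw [← h.cjP_mul _ hg'.1 hg.1, e', e]⟩

theorem cjP_trivChar {g : G} (hg : g ∈ Subgroup.normalizer (P : Set G)) :
    cjFun ((trivChar P : IrrCharacter P) : P → ℂ) g = ((trivChar P : IrrCharacter P) : P → ℂ) :=
  funext fun x => by rw [h.cjP_apply _ hg, trivChar_apply, trivChar_apply]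

theorem ne_trivChar_of_rel (η : V → ℂ) {l μ : IrrCharacter P} (hr : h.Rel η l μ)
    (hμ : μ ≠ trivChar P) : l ≠ trivChar P := by
  rintro rfl
  obtain ⟨g, hg, e⟩ := (h.rel_equiv η).symm hr
  exact hμ (Subtype.ext (e.symm.trans (h.cjP_trivChar hg.1)))

variable [Fintype P]

theorem card_lchar : Nat.card (IrrCharacter P) = Nat.card P := by
  rw [card_irrCharacter]
  refine (Nat.card_congr (Equiv.ofBijective _ ⟨?_, ConjClasses.mk_surjective⟩)).symm
  intro a b e
  obtain ⟨c, hc⟩ := isConj_iff.1 (ConjClasses.mk_eq_mk_iff_isConj.1 e)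
  rw [← hc, show c * a = a * c from Subtype.ext (h.mul_comm_P c.2 a.2), mul_inv_cancel_right]

theorem lchar_one (l : IrrCharacter P) : (l : P → ℂ) 1 = 1 := by
  classical
  have : Fintype (IrrCharacter P) := Fintype.ofFinite _
  choose d hd0 hd using fun ψ : IrrCharacter P => IsIrr.exists_degree ψ.2
  have hs := sum_sq_degree (G := P)
  simp only [hd, ← h.card_lchar, Nat.card_eq_fintype_card (α := IrrCharacter P), ← Finset.card_univ,
    Finset.card_eq_sum_ones] at hs
  have hs' : ∑ ψ, d ψ ^ 2 = ∑ _ψ : IrrCharacter P, 1 := by exact_mod_cast hs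
  have := (Finset.sum_eq_sum_iff_of_le fun ψ _ => Nat.one_le_pow 2 _ (hd0 ψ)).1 hs'.symm l
    (Finset.mem_univ _)
  rw [hd, show d l = 1 from (pow_eq_one_iff_left (by norm_num : (2:ℕ) ≠ 0)).1 this.symm, Nat.cast_one]

/-- The normalizer acts semiregularly modulo the centralizer. -/
theorem mem_centralizer_of_fix {μ : IrrCharacter P} (hμ : μ ≠ trivChar P) {g : G}
    (hg : g ∈ Subgroup.normalizer (P : Set G)) (e : cjFun (μ : P → ℂ) g = (μ : P → ℂ)) :
    g ∈ Subgroup.centralizer (P : Set G) := by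
  by_contra hgC
  obtain ⟨φ, hφ⟩ := exists_linear_of_degree_one (IsIrr.isCharacter μ.2) (h.lchar_one μ)
  have hφ' : ∀ x, (μ : P → ℂ) x = (φ x : ℂ) := fun x => by simp [hφ]
  set ψ : P → P := fun y => conjN P hg y * y⁻¹
  have hinj : Function.Injective ψ := by
    intro a b eab
    by_contra hne
    set z := a * b⁻¹
    have hz : z ≠ 1 := fun e => hne (mul_inv_eq_one.1 e)
    have hzfix : conjN P hg z = z := by
      have hc : ∀ u w : P, u * w = w * u := fun u w => Subtype.ext (h.mul_comm_P u.2 w.2)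
      simp only [z, map_mul, map_inv]
      have h1 : conjN P hg a = (conjN P hg b * b⁻¹) * a := mul_inv_eq_iff_eq_mul.1 eab
      rw [h1, hc (conjN P hg b * b⁻¹) a, mul_assoc, mul_assoc, hc b⁻¹, ← mul_assoc (conjN P hg b),
        mul_inv_cancel, one_mul]
    refine hgC ?_
    rw [← h.star z z.2 (fun e => hz (Subtype.ext e)), Subgroup.mem_centralizer_iff]
    intro w hw
    rw [Set.mem_singleton_iff.1 hw]
    have e' : g * z * g⁻¹ = z := congrArg Subtype.val hzfix
    calc (z : G) * g = g * z * g⁻¹ * g := by rw [e']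
      _ = g * z := by group
  refine hμ (irr_ext fun x => ?_)
  obtain ⟨y, rfl⟩ := Finite.surjective_of_injective hinj x
  rw [trivChar_apply, hφ', map_mul, map_inv, Units.val_mul]
  have e1 : (φ (conjN P hg y) : ℂ) = φ y := by
    rw [← hφ', ← hφ']
    exact (h.cjP_apply _ hg y).symm.trans (congrFun e y)
  rw [e1, ← Units.val_mul, mul_inv_cancel, Units.val_one]

open scoped Classical in
/-- The fibres of the inertial action on the characters of `P`. -/
theorem card_fiber (η : IrrCharacter V) (l μ : IrrCharacter P) (hμ : μ ≠ trivChar P) :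
    (Finset.univ.filter fun g : G =>
        g ∈ h.inertiaT (η : V → ℂ) ∧ cjFun (μ : P → ℂ) g = (l : P → ℂ)).card =
      if h.Rel (η : V → ℂ) l μ then Nat.card P * Nat.card V else 0 := by
  classical
  split_ifs with hc
  · obtain ⟨g₀, hg₀, hl⟩ := hc
    rw [← h.card_centralizer, Nat.card_eq_fintype_card, ← Fintype.card_coe]
    symm
    refine Fintype.card_congr
      { toFun := fun c => ⟨(c : G) * g₀, Finset.mem_filter.2 ⟨Finset.mem_univ _,
          mul_mem (h.centralizer_le_inertiaT η c.2) hg₀, ?_⟩⟩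
        invFun := fun g => ⟨(g : G) * g₀⁻¹, ?_⟩
        left_inv := fun c => by simp
        right_inv := fun g => by simp }
    · rw [← h.cjP_mul _ (h.le_normalizer_centralizer c.2) hg₀.1, ← hl]
      congr 1
      funext x
      rw [h.cjP_apply _ (h.le_normalizer_centralizer c.2)]
      refine congrArg _ (Subtype.ext ?_)
      show (c : G) * x * (c : G)⁻¹ = x
      rw [← Subgroup.mem_centralizer_iff.1 c.2 x x.2, mul_inv_cancel_right]
    · obtain ⟨-, hgT, hgl⟩ := Finset.mem_filter.1 g.2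
      refine h.mem_centralizer_of_fix hμ (mul_mem hgT.1 (inv_mem hg₀.1)) ?_
      rw [← h.cjP_mul _ hgT.1 (inv_mem hg₀.1), hgl, ← hl, h.cjP_mul _ hg₀.1 (inv_mem hg₀.1),
        mul_inv_cancel, h.cjP_one]
  · rw [Finset.card_eq_zero, Finset.filter_eq_empty_iff]
    exact fun g _ hg => hc ⟨g, hg⟩

open scoped Classical in
/-- An inertial orbit has `e` members. -/
theorem card_orbit [Fintype (IrrCharacter P)] (η : IrrCharacter V) (μ : IrrCharacter P)
    (hμ : μ ≠ trivChar P) :
    (Finset.univ.filter fun l => h.Rel (η : V → ℂ) l μ).card = h.eIdx (η : V → ℂ) := by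
  classical
  set T := h.inertiaT (η : V → ℂ)
  have h1 : (Finset.univ.filter (· ∈ T)).card =
      ∑ l : IrrCharacter P, (Finset.univ.filter fun g : G =>
        g ∈ T ∧ cjFun (μ : P → ℂ) g = (l : P → ℂ)).card := by
    let f : G → IrrCharacter P := fun g =>
      if hg : g ∈ Subgroup.normalizer (P : Set G) then ⟨_, h.isIrr_cjP μ hg⟩ else μ
    rw [Finset.card_eq_sum_card_fiberwise (f := f) (t := Finset.univ) fun _ _ => Finset.mem_univ _]
    refine Finset.sum_congr rfl fun l _ => congrArg Finset.card ?_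
    rw [Finset.filter_filter]
    refine Finset.filter_congr fun g _ => and_congr_right fun hg => ?_
    simp only [f, dif_pos hg.1, Subtype.ext_iff]
  have hT : (Finset.univ.filter (· ∈ T)).card =
      h.eIdx (η : V → ℂ) * (Nat.card P * Nat.card V) := by
    rw [← h.card_inertiaT η, Nat.card_eq_fintype_card, ← Fintype.card_coe]
    exact Fintype.card_congr (Equiv.subtypeEquivRight fun g => by simp [T])
  rw [hT, Finset.sum_congr rfl fun l _ => h.card_fiber η l μ hμ, ← Finset.sum_filter,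
    Finset.sum_const, smul_eq_mul] at h1
  exact (Nat.eq_of_mul_eq_mul_right (Nat.mul_pos Nat.card_pos Nat.card_pos) h1).symm

variable [Fintype V]

/-- The multiplicity of `l × η` in the restriction to `P × V`. -/
noncomputable def mu (η : IrrCharacter V) (χ : IrrCharacter G) (l : IrrCharacter P) : ℕ :=
  Classical.choose (h.exists_mult (IsIrr.isCharacter χ.2) (IsIrr.isCharacter η.2)
    (IsIrr.isCharacter l.2))

theorem mu_spec (η : IrrCharacter V) (χ : IrrCharacter G) (l : IrrCharacter P) :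
    classInner (fun x : P => dval (χ : G → ℂ) (x : G) (η : V → ℂ)) (l : P → ℂ) =
      (h.mu η χ l : ℂ) :=
  Classical.choose_spec (h.exists_mult (IsIrr.isCharacter χ.2) (IsIrr.isCharacter η.2)
    (IsIrr.isCharacter l.2))

/-- The normalized coefficient. -/
noncomputable def cf (η : IrrCharacter V) (χ : IrrCharacter G) (l : IrrCharacter P) : ℤ :=
  (h.mu η χ l : ℤ) - h.mu η χ (trivChar P)

theorem cf_spec (η : IrrCharacter V) (χ : IrrCharacter G) (l : IrrCharacter P) :
    (Nat.card P : ℂ) * (h.cf η χ l : ℂ) =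
      ∑ x : P, dval (χ : G → ℂ) (x : G) (η : V → ℂ) * (conj ((l : P → ℂ) x) - 1) := by
  have hP0 : (Nat.card P : ℂ) ≠ 0 := Nat.cast_ne_zero.2 Nat.card_pos.ne'
  rw [cf]
  push_cast
  rw [← h.mu_spec, ← h.mu_spec, mul_sub]
  simp only [classInner, ← mul_assoc, mul_inv_cancel₀ hP0, one_mul, trivChar_apply,
    map_one, mul_one, ← Finset.sum_sub_distrib]
  exact Finset.sum_congr rfl fun x _ => by ring

theorem dval_eq_sum [Fintype (IrrCharacter P)] (η : IrrCharacter V) (χ : IrrCharacter G) (x : P) :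
    dval (χ : G → ℂ) (x : G) (η : V → ℂ) =
      ∑ l : IrrCharacter P, (h.mu η χ l : ℂ) * (l : P → ℂ) x := by
  have e := classFunction_apply_eq_sum
    (h.isClassFunction_P fun x : P => dval (χ : G → ℂ) (x : G) (η : V → ℂ)) x
  simp only [h.mu_spec] at e
  exact e

theorem mu_conj (η : IrrCharacter V) (χ : IrrCharacter G) (l : IrrCharacter P) {n : G}
    (hn : n ∈ Subgroup.normalizer (P : Set G)) :
    h.mu ⟨_, h.isIrr_cjV η hn⟩ χ ⟨_, h.isIrr_cjP l hn⟩ = h.mu η χ l := by
  apply Nat.cast_injective (R := ℂ)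
  rw [← h.mu_spec, ← h.mu_spec]
  simp only [classInner]
  congr 1
  refine Fintype.sum_equiv (conjN P hn).toEquiv _ _ fun x => ?_
  show dval (χ : G → ℂ) x (cjFun (η : V → ℂ) n) * conj (cjFun (l : P → ℂ) n x) = _
  rw [← h.dval_conj (IsIrr.isClassFunction χ.2) _ _ hn, h.cjP_apply _ hn]
  rfl

variable [Fintype (IrrCharacter G)]

open scoped Classical in
theorem sum_dval_mul (η : IrrCharacter V) {x x' : G} (hx : x ∈ P) (hx1 : x ≠ 1) (hx' : x' ∈ P) :
    ∑ χ : IrrCharacter G, dval (χ : G → ℂ) x (η : V → ℂ) * conj (dval (χ : G → ℂ) x' (η : V → ℂ)) =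
      ((Finset.univ.filter fun g => g ∈ Subgroup.normalizer (P : Set G) ∧
        cjFun (η : V → ℂ) g = (η : V → ℂ) ∧ g * x * g⁻¹ = x').card : ℂ) / (Nat.card V : ℂ) := by
  simp only [dval, classInner, map_mul, map_sum, map_inv₀, map_natCast, Finset.sum_mul,
    Finset.mul_sum, Complex.conj_conj]
  rw [Finset.sum_comm]
  simp only [Finset.sum_comm (s := (Finset.univ : Finset (IrrCharacter G)))]
  have hcol : ∀ v w : V, ∑ χ : IrrCharacter G, (χ : G → ℂ) (x * v) * conj ((χ : G → ℂ) (x' * w)) =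
      ∑ g : G, if g ∈ Subgroup.normalizer (P : Set G) ∧ g * x * g⁻¹ = x' ∧
        g * (v : G) * g⁻¹ = w then (1 : ℂ) else 0 := by
    intro v w
    rw [sum_irr_mul_conj, Finset.sum_boole]
    congr 2
    refine Finset.filter_congr fun g _ => ⟨fun e => h.fusion hx hx' hx1 v.2 w.2 e, ?_⟩
    rintro ⟨-, e1, e2⟩
    rw [← e1, ← e2]
    group
  have hinner : ∀ g ∈ Subgroup.normalizer (P : Set G),
      classInner (cjFun (η : V → ℂ) g) (η : V → ℂ) =
        if cjFun (η : V → ℂ) g = (η : V → ℂ) then 1 else 0 := by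
    intro g hg
    split_ifs with e
    · rw [e]; exact classInner_irr_self η
    · exact classInner_irr_of_ne (χ := ⟨_, h.isIrr_cjV η hg⟩)
        (fun e' => e (congrArg Subtype.val e'))
  calc _ = ∑ v : V, ∑ w : V, (Nat.card V : ℂ)⁻¹ ^ 2 * (conj ((η : V → ℂ) v) * (η : V → ℂ) w *
        ∑ χ : IrrCharacter G, (χ : G → ℂ) (x * v) * conj ((χ : G → ℂ) (x' * w))) := by
        rw [Finset.sum_comm]
        refine Finset.sum_congr rfl fun v _ => Finset.sum_congr rfl fun w _ => ?_
        simp only [Finset.mul_sum]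
        exact Finset.sum_congr rfl fun χ _ => by ring
    _ = ∑ g : G, (Nat.card V : ℂ)⁻¹ * if g ∈ Subgroup.normalizer (P : Set G) ∧ g * x * g⁻¹ = x' then
          classInner (cjFun (η : V → ℂ) g) (η : V → ℂ) else 0 := by
        simp only [hcol, Finset.mul_sum]
        simp only [Finset.sum_comm (t := (Finset.univ : Finset G))]
        refine Finset.sum_congr rfl fun g _ => ?_
        split_ifs with hg
        · rw [classInner, Finset.mul_sum, Finset.mul_sum]
          refine Finset.sum_congr rfl fun v _ => ?_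
          rw [Finset.sum_eq_single ⟨g * v * g⁻¹, h.conj_mem hg.1 v.2⟩]
          · rw [if_pos ⟨hg.1, hg.2, rfl⟩, h.cjV_apply _ hg.1]
            show _ = (Nat.card V : ℂ)⁻¹ * ((Nat.card V : ℂ)⁻¹ *
              ((η : V → ℂ) ⟨g * v * g⁻¹, h.conj_mem hg.1 v.2⟩ * conj ((η : V → ℂ) v)))
            ring
          · intro w _ hw
            rw [if_neg fun e => hw (Subtype.ext e.2.2.symm)]
            ring
          · simp
        · refine (Finset.sum_eq_zero fun v _ => Finset.sum_eq_zero fun w _ => ?_).trans (mul_zero _).symm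
          rw [if_neg fun e => hg ⟨e.1, e.2.1⟩]
          ring
    _ = _ := by
        rw [← Finset.mul_sum, div_eq_mul_inv, mul_comm, ← Finset.sum_boole]
        congr 1
        refine Finset.sum_congr rfl fun g _ => ?_
        by_cases hg : g ∈ Subgroup.normalizer (P : Set G)
        · rw [hinner g hg]
          split_ifs <;> simp_all
        · simp [hg]

open scoped Classical in
/-- The Gram matrix of the coefficients. -/
theorem sum_cf_mul (η : IrrCharacter V) (l μ : IrrCharacter P)
    (hl : l ≠ trivChar P) (hμ : μ ≠ trivChar P) :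
    ∑ χ : IrrCharacter G, h.cf η χ l * h.cf η χ μ =
      (if h.Rel (η : V → ℂ) l μ then 1 else 0) + (h.eIdx (η : V → ℂ) : ℤ) := by
  classical
  set q := Nat.card P with hq
  have hp0 : (q : ℂ) ≠ 0 := Nat.cast_ne_zero.2 Nat.card_pos.ne'
  have hV0 : (Nat.card V : ℂ) ≠ 0 := Nat.cast_ne_zero.2 Nat.card_pos.ne'
  set T := h.inertiaT (η : V → ℂ)
  set a : IrrCharacter P → P → ℂ := fun l x => conj ((l : P → ℂ) x) - 1
  have ha1 : ∀ l : IrrCharacter P, a l 1 = 0 := fun l => by simp [a, h.lchar_one]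
  have hsum : ∀ x y : P, a l x * conj (a μ y) * (∑ χ : IrrCharacter G,
      dval (χ : G → ℂ) (x : G) (η : V → ℂ) * conj (dval (χ : G → ℂ) (y : G) (η : V → ℂ))) =
      a l x * conj (a μ y) * (((Finset.univ.filter fun g => g ∈ T ∧ g * (x : G) * g⁻¹ = y).card : ℂ) /
        (Nat.card V : ℂ)) := by
    intro x y
    by_cases hx : x = 1
    · simp [hx, ha1]
    · rw [h.sum_dval_mul η x.2 (fun e => hx (Subtype.ext e)) y.2]
      congr 4
      refine Finset.filter_congr fun g _ => ?_
      exact and_assoc.symm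
  have hstep : ((q : ℂ) * q) * ((∑ χ : IrrCharacter G, h.cf η χ l * h.cf η χ μ : ℤ) : ℂ) =
      ∑ g ∈ Finset.univ.filter (· ∈ T), (Nat.card V : ℂ)⁻¹ * ∑ x : P, a l x *
        if hg : g ∈ Subgroup.normalizer (P : Set G) then conj (a μ (conjN P hg x)) else 0 := by
    have e1 : ((q : ℂ) * q) * ((∑ χ : IrrCharacter G, h.cf η χ l * h.cf η χ μ : ℤ) : ℂ) =
        ∑ χ : IrrCharacter G, ((q : ℂ) * h.cf η χ l) * conj ((q : ℂ) * h.cf η χ μ) := by
      push_cast
      rw [Finset.mul_sum]
      exact Finset.sum_congr rfl fun χ _ => by simp; ring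
    rw [e1]
    calc _ = ∑ x : P, ∑ y : P, a l x * conj (a μ y) * ∑ χ : IrrCharacter G,
          dval (χ : G → ℂ) (x : G) (η : V → ℂ) * conj (dval (χ : G → ℂ) (y : G) (η : V → ℂ)) := by
          simp only [hq, h.cf_spec, map_sum, map_mul, Finset.sum_mul, Finset.mul_sum]
          conv_rhs => rw [Finset.sum_comm]
          rw [Finset.sum_comm]
          refine Finset.sum_congr rfl fun x _ => ?_
          rw [Finset.sum_comm]
          exact Finset.sum_congr rfl fun y _ => Finset.sum_congr rfl fun χ _ => by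
            simp [a]
            ring
      _ = _ := by
          simp only [hsum]
          simp only [← Finset.sum_boole, Finset.sum_div, Finset.mul_sum]
          simp only [Finset.sum_comm (t := (Finset.univ : Finset G))]
          rw [Finset.sum_filter]
          refine Finset.sum_congr rfl fun g _ => ?_
          by_cases hg : g ∈ T
          · rw [if_pos hg]
            refine Finset.sum_congr rfl fun x _ => ?_
            rw [Finset.sum_eq_single (conjN P hg.1 x)]
            · rw [if_pos ⟨hg, rfl⟩, dif_pos hg.1]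
              ring
            · intro y _ hy
              rw [if_neg fun e => hy (Subtype.ext e.2.symm)]
              simp
            · simp
          · rw [if_neg hg]
            exact Finset.sum_eq_zero fun x _ => Finset.sum_eq_zero fun y _ => by
              rw [if_neg fun e => hg e.1]; simp
  have hinner : ∀ g ∈ T, ∑ x : P, a l x *
      (if hg : g ∈ Subgroup.normalizer (P : Set G) then conj (a μ (conjN P hg x)) else 0) =
      (q : ℂ) * (if cjFun (μ : P → ℂ) g = (l : P → ℂ) then 1 else 0) + q := by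
    intro g hg
    set μ' : IrrCharacter P := ⟨_, h.isIrr_cjP μ hg.1⟩
    have hμ' : μ' ≠ trivChar P := h.ne_trivChar_of_rel (η : V → ℂ) ⟨g, hg, rfl⟩ hμ
    have horth : ∀ ψ φ : IrrCharacter P, ∑ x : P, (ψ : P → ℂ) x * conj ((φ : P → ℂ) x) =
        if ψ = φ then (q : ℂ) else 0 := fun ψ φ => by
      have := classInner_irr ψ φ
      rw [classInner, ← hq, inv_mul_eq_iff_eq_mul₀ hp0] at this
      rw [this]
      split_ifs <;> simp
    have hz : ∀ ψ : IrrCharacter P, ψ ≠ trivChar P → ∑ x : P, (ψ : P → ℂ) x = 0 := fun ψ hψ => by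
      simpa [hψ] using horth ψ (trivChar P)
    have hterm : ∀ x : P, a l x * (if hg' : g ∈ Subgroup.normalizer (P : Set G) then
        conj (a μ (conjN P hg' x)) else 0) =
        (μ' : P → ℂ) x * conj ((l : P → ℂ) x) - (μ' : P → ℂ) x - conj ((l : P → ℂ) x) + 1 := fun x => by
      rw [dif_pos hg.1, show (μ' : P → ℂ) x = _ from h.cjP_apply _ hg.1 x]
      simp [a]
      ring
    rw [Finset.sum_congr rfl fun x _ => hterm x, Finset.sum_add_distrib, Finset.sum_sub_distrib,
      Finset.sum_sub_distrib, horth, hz μ' hμ', ← map_sum, hz l hl, map_zero, Finset.sum_const,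
      Finset.card_univ, ← Nat.card_eq_fintype_card, ← hq, nsmul_one]
    have hiff : μ' = l ↔ cjFun (μ : P → ℂ) g = (l : P → ℂ) := Subtype.ext_iff
    simp only [sub_zero, hiff]
    split_ifs <;> simp
  replace hstep := hstep.trans (Finset.sum_congr rfl fun g hg =>
    congrArg ((Nat.card V : ℂ)⁻¹ * ·) (hinner g (Finset.mem_filter.1 hg).2))
  rw [← Finset.mul_sum, Finset.sum_add_distrib, ← Finset.mul_sum, Finset.sum_boole,
    Finset.filter_filter, h.card_fiber η l μ hμ, Finset.sum_const, nsmul_eq_mul] at hstep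
  have hT : (Finset.univ.filter (· ∈ T)).card = h.eIdx (η : V → ℂ) * (q * Nat.card V) := by
    rw [hq, ← h.card_inertiaT η, Nat.card_eq_fintype_card, ← Fintype.card_coe]
    exact Fintype.card_congr (Equiv.subtypeEquivRight fun g => by simp [T])
  rw [hT, ← hq] at hstep
  apply Int.cast_injective (α := ℂ)
  refine mul_left_cancel₀ (mul_ne_zero hp0 hp0) (hstep.trans ?_)
  split_ifs <;> push_cast <;> field_simp <;> ring

/-- The coefficients are orthogonal to the degrees. -/
theorem sum_cf_degree (η : IrrCharacter V) (l : IrrCharacter P) :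
    ∑ χ : IrrCharacter G, (h.cf η χ l : ℂ) * (χ : G → ℂ) 1 = 0 := by
  refine (mul_eq_zero.1 (?_ : (Nat.card P : ℂ) * _ = 0)).resolve_left
    (Nat.cast_ne_zero.2 Nat.card_pos.ne')
  classical
  simp only [Finset.mul_sum, ← mul_assoc, h.cf_spec, Finset.sum_mul]
  rw [Finset.sum_comm]
  refine Finset.sum_eq_zero fun x _ => ?_
  by_cases hx : x = 1
  · simp [hx, h.lchar_one]
  · have hx1 : (x : G) ≠ 1 := fun e => hx (Subtype.ext e)
    have h0 : ∑ χ : IrrCharacter G,
        dval (χ : G → ℂ) (x : G) (η : V → ℂ) * conj ((χ : G → ℂ) 1) = 0 := by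
      simp only [dval, classInner, Finset.mul_sum, Finset.sum_mul]
      rw [Finset.sum_comm]
      refine Finset.sum_eq_zero fun v _ => ?_
      have h1 : ∑ χ : IrrCharacter G, (χ : G → ℂ) (x * v) * conj ((χ : G → ℂ) 1) = 0 := by
        rw [column_orthogonality, if_neg]
        intro hc
        have hd := h.dvd_orderOf x.2 hx1 v.2
        obtain ⟨c, hc⟩ := isConj_iff.1 hc
        have e : (x : G) * v = 1 := conj_eq_one_iff.1 hc
        rw [e, orderOf_one] at hd
        exact h.prime.ne_one (Nat.dvd_one.1 hd)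
      calc _ = (Nat.card V : ℂ)⁻¹ * conj ((η : V → ℂ) v) *
            ∑ χ : IrrCharacter G, (χ : G → ℂ) (x * v) * conj ((χ : G → ℂ) 1) := by
            rw [Finset.mul_sum]
            exact Finset.sum_congr rfl fun χ _ => by ring
        _ = 0 := by rw [h1, mul_zero]
    simp only [← IsIrr.map_inv (Subtype.prop _), inv_one] at h0
    calc _ = (conj ((l : P → ℂ) x) - 1) * ∑ χ : IrrCharacter G,
          dval (χ : G → ℂ) (x : G) (η : V → ℂ) * (χ : G → ℂ) 1 := by
          rw [Finset.mul_sum]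
          exact Finset.sum_congr rfl fun χ _ => by ring
      _ = 0 := by rw [h0, mul_zero]

/-- The coefficient vectors are constant on inertial orbits. -/
theorem cf_eq_of_rel (η : IrrCharacter V) {l μ : IrrCharacter P} (hl : l ≠ trivChar P)
    (hμ : μ ≠ trivChar P) (hr : h.Rel (η : V → ℂ) l μ) (χ : IrrCharacter G) :
    h.cf η χ l = h.cf η χ μ := by
  classical
  have h1 := h.sum_cf_mul η l l hl hl
  have h2 := h.sum_cf_mul η μ μ hμ hμ
  have h3 := h.sum_cf_mul η l μ hl hμ
  rw [if_pos ((h.rel_equiv (η : V → ℂ)).refl l)] at h1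
  rw [if_pos ((h.rel_equiv (η : V → ℂ)).refl μ)] at h2
  rw [if_pos hr] at h3
  have hz : ∑ ψ : IrrCharacter G, (h.cf η ψ l - h.cf η ψ μ) ^ 2 = 0 := by
    rw [Finset.sum_congr rfl fun ψ _ => show (h.cf η ψ l - h.cf η ψ μ) ^ 2 =
      h.cf η ψ l * h.cf η ψ l - 2 * (h.cf η ψ l * h.cf η ψ μ) +
        h.cf η ψ μ * h.cf η ψ μ by ring, Finset.sum_add_distrib, Finset.sum_sub_distrib,
      ← Finset.mul_sum, h1, h2, h3]
    ring
  have := (Finset.sum_eq_zero_iff_of_nonneg fun ψ _ => sq_nonneg _).1 hz χ (Finset.mem_univ _)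
  exact sub_eq_zero.1 (pow_eq_zero_iff two_ne_zero |>.1 this)

end TISetup

end CfsgLib.TIExceptional
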