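import Cfsg.Agent.Lib.Char.TIExceptional.SmallDegree

/-!
# Small characters are trivial on commutators with `P`
-/

set_option autoImplicit false

namespace CfsgLib.TIExceptional

open Cfsg CfsgLib.Char CfsgLib.Blocks

variable {G : Type*} [Group G] [Finite G] {p : ℕ} {P : Subgroup G}

/-- A character with `χ(1)² + 1 < |P|` of a group generated by the conjugates of `P` is trivial
on the commutators with `P`. -/
theorem apply_commutator_eq (hp : p.Prime) (hPG : IsPGroup p P) (hS : ¬ p ∣ P.index)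
    (hstar : ∀ x ∈ P, x ≠ 1 → Subgroup.centralizer ({x} : Set G) = Subgroup.centralizer (P : Set G))
    (hgen : ∀ H : Subgroup G, H.Normal → P ≤ H → H = ⊤) {χ : G → ℂ} (hχ : IsCharacter G χ)
    (hn : charDegree χ ^ 2 + 1 < Nat.card P) {x : G} (hx : x ∈ P) (k : G) :
    χ (k * x * k⁻¹ * x⁻¹) = χ 1 := by
  classical
  obtain ⟨V, hV⟩ := exists_setup hp hPG hS hstar
  have := Fintype.ofFinite G
  have := Fintype.ofFinite P
  have := Fintype.ofFinite V
  have := Fintype.ofFinite (IrrCharacter G)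
  have := Fintype.ofFinite (IrrCharacter P)
  obtain ⟨m, hm⟩ := IsChar.exists_sum hχ
  have hmv : ∀ g : G, χ g = ∑ ξ : IrrCharacter G, (m ξ : ℂ) * (ξ : G → ℂ) g := fun g => by
    have := congrFun hm g
    simpa [Finset.sum_apply] using this
  obtain ⟨d, hd⟩ := IsChar.exists_degree hχ
  have hdeg : charDegree χ = d := CharDegree.charDegree_eq_of_apply_one hd
  have hle : ∀ ξ : IrrCharacter G, m ξ ≠ 0 → charDegree (ξ : G → ℂ) ≤ d := by
    intro ξ hξ
    have h1 := hmv 1
    simp only [hd, apply_one_eq_charDegree, ← Nat.cast_mul, ← Nat.cast_sum, Nat.cast_inj] at h1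
    rw [h1]
    exact (Nat.le_mul_of_pos_left _ (Nat.pos_of_ne_zero hξ)).trans
      (Finset.single_le_sum (f := fun ξ => m ξ * charDegree (ξ : G → ℂ))
        (fun _ _ => Nat.zero_le _) (Finset.mem_univ ξ))
  rw [hmv, hmv]
  refine Finset.sum_congr rfl fun ξ _ => ?_
  by_cases hξ : m ξ = 0
  · simp [hξ]
  congr 1
  have hξd : charDegree (ξ : G → ℂ) ^ 2 + 1 < Nat.card P := by
    have := Nat.pow_le_pow_left (hle ξ hξ) 2
    rw [hdeg] at hn
    omega
  have h1 := hV.norm_eq_of_small hgen ξ hξd hx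
  obtain ⟨d', ρ, -, hρ, hd'⟩ := CharDegree.exists_rep ξ
  rw [← hd', ← hρ] at h1
  obtain ⟨ω, hω⟩ := CharIntegral.exists_scalar_of_norm_character_eq ρ x (by
    rw [h1, Module.finrank_fin_fun])
  have hone : ρ (k * x * k⁻¹ * x⁻¹) = ρ 1 := by
    rw [map_mul, map_mul, map_mul, hω, mul_smul_comm, ← Module.End.one_eq_id, mul_one,
      smul_mul_assoc, ← map_mul, mul_inv_cancel, map_one]
    rw [smul_mul_assoc, one_mul]
    have h3 : ρ x * ρ x⁻¹ = 1 := by rw [← map_mul, mul_inv_cancel, map_one]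
    rw [hω, smul_mul_assoc, ← Module.End.one_eq_id, one_mul] at h3
    exact h3
  rw [← hρ]
  exact congrArg (LinearMap.trace ℂ _) hone

/-- A nontrivial linear character makes `N(P)` centralize `P`. -/
theorem normalizer_le_centralizer (hp : p.Prime) (hPG : IsPGroup p P) (hS : ¬ p ∣ P.index)
    (hstar : ∀ x ∈ P, x ≠ 1 → Subgroup.centralizer ({x} : Set G) = Subgroup.centralizer (P : Set G))
    (l : G →* ℂˣ) {x₀ : G} (hx₀ : x₀ ∈ P) (hl : l x₀ ≠ 1) :
    Subgroup.normalizer (P : Set G) ≤ Subgroup.centralizer (P : Set G) := by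
  classical
  obtain ⟨V, hV⟩ := exists_setup hp hPG hS hstar
  have := Fintype.ofFinite G
  have := Fintype.ofFinite P
  intro g hg
  let φ : P →* ℂˣ := l.comp P.subtype
  let μ : IrrCharacter P := ⟨fun y => (φ y : ℂ), isIrrCharacter_linear φ⟩
  refine hV.mem_centralizer_of_fix (μ := μ) (fun e => hl ?_) hg (funext fun y => ?_)
  · have h1 := congrFun (congrArg Subtype.val e) (⟨x₀, hx₀⟩ : P)
    rw [trivChar_apply] at h1
    exact Units.val_injective (by simpa [μ, φ] using h1)
  · rw [hV.cjP_apply _ hg]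
    show ((l (g * y * g⁻¹) : ℂˣ) : ℂ) = (l y : ℂ)
    rw [map_mul, map_mul, map_inv, mul_inv_eq_iff_eq_mul.2 (mul_comm _ _)]

end CfsgLib.TIExceptional
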