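import Cfsg.Agent.Lib.Blocks.PrimeSylow.Local
import Cfsg.Agent.Lib.Blocks.Orthogonality

/-!
# An abelian Sylow subgroup whose nontrivial elements all have the same centralizer

`V` is the `p'`-part of the centralizer; fusion of `p`-singular elements of the centralizer is
controlled by the normalizer, which acts semiregularly on the nontrivial characters of `P`.
-/

set_option autoImplicit false

open scoped ComplexConjugate

namespace CfsgLib.TIExceptional

open Cfsg CfsgLib.Char CfsgLib.Blocks CfsgLib.Blocks.PrimeSylow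

variable {G : Type*} [Group G]

/-- `P` is a Sylow `p`-subgroup all of whose nontrivial elements have centralizer `C(P)`, and `V`
is the `p'`-part of that centralizer. -/
structure TISetup (p : ℕ) (P V : Subgroup G) : Prop where
  prime : p.Prime
  isPGroup : IsPGroup p P
  not_dvd : ¬ p ∣ P.index
  star : ∀ x ∈ P, x ≠ 1 → Subgroup.centralizer ({x} : Set G) = Subgroup.centralizer (P : Set G)
  mem_V : ∀ v, v ∈ V ↔ v ∈ Subgroup.centralizer (P : Set G) ∧ ¬ p ∣ orderOf v

variable [Finite G] {p : ℕ} {P V : Subgroup G}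

theorem le_centralizer_of_star
    (hstar : ∀ x ∈ P, x ≠ 1 → Subgroup.centralizer ({x} : Set G) = Subgroup.centralizer (P : Set G)) :
    P ≤ Subgroup.centralizer (P : Set G) := fun x hx => by
  by_cases hx1 : x = 1
  · rw [hx1]; exact one_mem _
  · rw [← hstar x hx hx1]
    exact Subgroup.mem_centralizer_iff.2 fun y hy => by rw [Set.mem_singleton_iff.1 hy]

theorem mem_of_pow_eq_one (hp : p.Prime) (hS : ¬ p ∣ P.index) {y : G}
    (hy : y ∈ Subgroup.normalizer (P : Set G)) {k : ℕ} (h1 : y ^ p ^ k = 1) : y ∈ P := by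
  set N := Subgroup.normalizer (P : Set G)
  haveI := Fact.mk hp
  have h2 : (QuotientGroup.mk' (P.subgroupOf N) ⟨y, hy⟩) ^ p ^ k = 1 := by
    rw [← map_pow, show (⟨y, hy⟩ : N) ^ p ^ k = 1 from Subtype.ext h1, map_one]
  have h3 : orderOf (QuotientGroup.mk' (P.subgroupOf N) ⟨y, hy⟩) ∣ P.index :=
    (orderOf_dvd_natCard _).trans (Subgroup.relIndex_dvd_index_of_le (P.le_normalizer : P ≤ N))
  obtain ⟨j, -, hj⟩ := (Nat.dvd_prime_pow hp).1 (orderOf_dvd_of_pow_eq_one h2)
  rcases j with _ | j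
  · rw [pow_zero, orderOf_eq_one_iff] at hj
    exact Subgroup.mem_subgroupOf.1 ((QuotientGroup.eq_one_iff _).1 hj)
  · rw [hj] at h3
    exact absurd ((dvd_pow_self p (Nat.succ_ne_zero j)).trans h3) hS

theorem exists_setup (hp : p.Prime) (hPG : IsPGroup p P) (hS : ¬ p ∣ P.index)
    (hstar : ∀ x ∈ P, x ≠ 1 → Subgroup.centralizer ({x} : Set G) = Subgroup.centralizer (P : Set G)) :
    ∃ V : Subgroup G, TISetup p P V := by
  have := Fact.mk hp
  set C := Subgroup.centralizer (P : Set G) with hC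
  have hPC : P ≤ C := le_centralizer_of_star hstar
  have : (P.subgroupOf C).Normal := ⟨fun x hx g => by
    have h := Subgroup.mem_centralizer_iff.1 g.2 _ (Subgroup.mem_subgroupOf.1 hx)
    rw [Subgroup.mem_subgroupOf, Subgroup.coe_mul, Subgroup.coe_mul, Subgroup.coe_inv, ← h,
      mul_inv_cancel_right]
    exact Subgroup.mem_subgroupOf.1 hx⟩
  have hidx : ¬ p ∣ (P.subgroupOf C).index := fun hd =>
    hS (hd.trans (Subgroup.relIndex_dvd_index_of_le hPC))
  obtain ⟨n, hn⟩ := IsPGroup.iff_card.1 hPG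
  have hcP : Nat.card (P.subgroupOf C) = p ^ n := by
    rw [Nat.card_congr (Subgroup.subgroupOfEquivOfLe hPC).toEquiv, hn]
  obtain ⟨H, hH⟩ := Subgroup.exists_right_complement'_of_coprime
    (N := P.subgroupOf C) (by rw [hcP]; exact (hp.coprime_iff_not_dvd.2 hidx).pow_left n)
  have hHc : ¬ p ∣ Nat.card H := by rwa [← hH.symm.index_eq_card]
  refine ⟨H.map C.subtype, hp, hPG, hS, hstar, fun v => ⟨?_, fun hv => ?_⟩⟩
  · rintro ⟨v, hv, rfl⟩
    refine ⟨v.2, fun hd => hHc (hd.trans ?_)⟩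
    rw [Subgroup.coe_subtype, Subgroup.orderOf_coe]
    exact Subgroup.orderOf_dvd_natCard _ hv
  · obtain ⟨⟨x, h⟩, hxh, -⟩ := hH.existsUnique ⟨v, hv.1⟩
    simp only at hxh
    refine ⟨h, h.2, ?_⟩
    have hx1 : (x : C) = 1 := by
      by_contra hne
      refine hv.2 ?_
      have hcomm : Commute (x : C) (h : C) := Subtype.ext
        (Subgroup.mem_centralizer_iff.1 (h : C).2 _ (Subgroup.mem_subgroupOf.1 x.2))
      have h1 := Subgroup.orderOf_dvd_natCard _ x.2
      rw [hcP] at h1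
      obtain ⟨j, -, hj⟩ := (Nat.dvd_prime_pow hp).1 h1
      have hj0 : j ≠ 0 := fun e => hne (orderOf_eq_one_iff.1 (by rw [hj, e, pow_zero]))
      have hcop : (orderOf (x : C)).Coprime (orderOf (h : C)) := by
        rw [hj]
        exact (hp.coprime_iff_not_dvd.2 fun hd =>
          hHc (hd.trans (Subgroup.orderOf_dvd_natCard _ h.2))).pow_left j
      rw [show orderOf v = p ^ j * orderOf (h : C) by
        rw [← hj, ← hcomm.orderOf_mul_eq_mul_orderOf_of_coprime hcop, hxh, ← Subgroup.orderOf_coe]]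
      exact (dvd_pow_self p hj0).trans (dvd_mul_right _ _)
    rw [hx1, one_mul] at hxh
    rw [hxh]
    rfl

namespace TISetup

variable (h : TISetup p P V)
include h

omit [Finite G] in
theorem V_le : V ≤ Subgroup.centralizer (P : Set G) := fun v hv => ((h.mem_V v).1 hv).1

omit [Finite G] in
theorem not_dvd_orderOf {v : G} (hv : v ∈ V) : ¬ p ∣ orderOf v := ((h.mem_V v).1 hv).2

omit [Finite G] in
theorem commute {x v : G} (hx : x ∈ P) (hv : v ∈ V) : Commute x v :=
  Subgroup.mem_centralizer_iff.1 (h.V_le hv) x hx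

theorem le_centralizer : P ≤ Subgroup.centralizer (P : Set G) := le_centralizer_of_star h.star

theorem mul_comm_P {x y : G} (hx : x ∈ P) (hy : y ∈ P) : x * y = y * x :=
  Subgroup.mem_centralizer_iff.1 (h.le_centralizer hy) x hx

theorem le_normalizer_centralizer :
    Subgroup.centralizer (P : Set G) ≤ Subgroup.normalizer (P : Set G) := fun c hc =>
  Subgroup.mem_normalizer_iff.2 fun y => ⟨fun hy => by
      rwa [← Subgroup.mem_centralizer_iff.1 hc y hy, mul_inv_cancel_right], fun hy => by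
      have e := Subgroup.mem_centralizer_iff.1 hc _ hy
      have : y = c * y * c⁻¹ := by
        have e' : c⁻¹ * (c * y * c⁻¹ * c) = c⁻¹ * (c * (c * y * c⁻¹)) := by rw [e]
        simpa [mul_assoc] using e'
      rwa [this]⟩

theorem orderOf_eq_pow {x : G} (hx : x ∈ P) : ∃ k : ℕ, orderOf x = p ^ k := by
  have := Fact.mk h.prime
  obtain ⟨k, hk⟩ := IsPGroup.iff_orderOf.1 h.isPGroup ⟨x, hx⟩
  exact ⟨k, by rw [← hk, ← Subgroup.orderOf_coe]⟩

theorem isPPart {x v : G} (hx : x ∈ P) (hv : v ∈ V) : IsPPart p (x * v) x :=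
  ⟨v, rfl, h.commute hx hv, h.orderOf_eq_pow hx, h.not_dvd_orderOf hv⟩

theorem exists_mul {c : G} (hc : c ∈ Subgroup.centralizer (P : Set G)) :
    ∃ x ∈ P, ∃ v ∈ V, x * v = c := by
  obtain ⟨u, hu⟩ := exists_pPart h.prime c
  obtain ⟨m, hm, hcm, -⟩ := IsPPart.exists_exponent h.prime hu
  obtain ⟨v, hv, hcomm, ⟨k, hk⟩, hvo⟩ := id hu
  have h1 : u ^ m ∈ Subgroup.centralizer (P : Set G) := hcm ▸ Subgroup.pow_mem _ hc m
  obtain ⟨t, ht⟩ : ∃ t : ℕ, (u ^ m) ^ t = u := by
    refine exists_pow_eq_self_of_coprime ?_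
    rw [hk]
    exact Nat.Coprime.pow_right _ (h.prime.coprime_iff_not_dvd.2 hm).symm
  have huc : u ∈ Subgroup.centralizer (P : Set G) := by
    rw [← ht]
    exact Subgroup.pow_mem _ h1 t
  refine ⟨u, mem_of_pow_eq_one h.prime h.not_dvd (h.le_normalizer_centralizer huc)
    (k := k) (by rw [← hk, pow_orderOf_eq_one]), v, (h.mem_V v).2 ⟨?_, hvo⟩, hv⟩
  rw [show v = u⁻¹ * c by rw [← hv, inv_mul_cancel_left]]
  exact mul_mem (inv_mem huc) hc

theorem mul_inj {x x' v v' : G} (hx : x ∈ P) (hx' : x' ∈ P) (hv : v ∈ V) (hv' : v' ∈ V)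
    (e : x * v = x' * v') : x = x' ∧ v = v' := by
  have hxx : x = x' := by
    have := conj_pPart_eq h.prime (h.isPPart hx hv) (e ▸ h.isPPart hx' hv' : IsPPart p (x * v) x')
      (x := 1) (j := 1) (by simpa using h.prime.ne_one) (by simp)
    simpa using this
  exact ⟨hxx, mul_left_cancel (hxx ▸ e)⟩

theorem conj_mem {n v : G} (hn : n ∈ Subgroup.normalizer (P : Set G)) (hv : v ∈ V) :
    n * v * n⁻¹ ∈ V := by
  refine (h.mem_V _).2 ⟨Subgroup.mem_centralizer_iff.2 fun x hx => ?_, ?_⟩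
  · have h1 := (h.commute ((Subgroup.mem_normalizer_iff''.1 hn x).1 hx) hv).eq
    calc x * (n * v * n⁻¹) = n * ((n⁻¹ * x * n) * v) * n⁻¹ := by group
      _ = n * (v * (n⁻¹ * x * n)) * n⁻¹ := by rw [h1]
      _ = n * v * n⁻¹ * x := by group
  · rw [show n * v * n⁻¹ = MulAut.conj n v by simp, MulEquiv.orderOf_eq]
    exact h.not_dvd_orderOf hv

/-- An element moving a nontrivial element of `P` into `P` normalizes `P`. -/
theorem mem_normalizer_of_conj {g x : G} (hx : x ∈ P) (hx1 : x ≠ 1) (hgx : g * x * g⁻¹ ∈ P) :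
    g ∈ Subgroup.normalizer (P : Set G) := by
  have hfwd : ∀ a b : G, a ∈ P → a ≠ 1 → b ∈ P → ∀ g : G, g * a * g⁻¹ = b →
      ∀ y ∈ P, g * y * g⁻¹ ∈ P := by
    intro a b ha ha1 hb g hg y hy
    have hb1 : b ≠ 1 := fun e => ha1 (conj_eq_one_iff.1 (hg.trans e))
    have hc : g * y * g⁻¹ ∈ Subgroup.centralizer (P : Set G) := by
      rw [← h.star b hb hb1, Subgroup.mem_centralizer_iff]
      intro z hz
      rw [Set.mem_singleton_iff.1 hz, ← hg]
      calc g * a * g⁻¹ * (g * y * g⁻¹) = g * (a * y) * g⁻¹ := by group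
        _ = g * (y * a) * g⁻¹ := by rw [h.mul_comm_P ha hy]
        _ = _ := by group
    obtain ⟨k, hk⟩ := h.orderOf_eq_pow hy
    refine mem_of_pow_eq_one h.prime h.not_dvd (h.le_normalizer_centralizer hc) (k := k) ?_
    rw [conj_pow, ← hk, pow_orderOf_eq_one]
    simp
  have hgx1 : g * x * g⁻¹ ≠ 1 := fun e => hx1 (conj_eq_one_iff.1 e)
  refine Subgroup.mem_normalizer_iff.2 fun y => ⟨hfwd x _ hx hx1 hgx g rfl y, fun hy => ?_⟩
  have := hfwd _ x hgx hgx1 hx g⁻¹ (by group) _ hy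
  simpa [mul_assoc] using this

/-- Fusion of `p`-singular elements of the centralizer. -/
theorem fusion {x x' v v' g : G} (hx : x ∈ P) (hx' : x' ∈ P) (hx1 : x ≠ 1) (hv : v ∈ V)
    (hv' : v' ∈ V) (e : g * (x * v) * g⁻¹ = x' * v') :
    g ∈ Subgroup.normalizer (P : Set G) ∧ g * x * g⁻¹ = x' ∧ g * v * g⁻¹ = v' := by
  have h1 : g⁻¹⁻¹ * x * g⁻¹ = x' := by
    refine conj_pPart_eq h.prime (h.isPPart hx hv) (h.isPPart hx' hv') (j := 1)
      (by simpa using h.prime.ne_one) ?_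
    rw [pow_one, pow_one, ← e]
    group
  rw [inv_inv] at h1
  refine ⟨h.mem_normalizer_of_conj hx hx1 (h1 ▸ hx'), h1, ?_⟩
  have : g * v * g⁻¹ = (g * x * g⁻¹)⁻¹ * (g * (x * v) * g⁻¹) := by group
  rw [this, e, h1, inv_mul_cancel_left]

theorem dvd_orderOf {x v : G} (hx : x ∈ P) (hx1 : x ≠ 1) (hv : v ∈ V) : p ∣ orderOf (x * v) :=
  (IsPPart.dvd_orderOf_iff h.prime (h.isPPart hx hv)).2 hx1

end TISetup

end CfsgLib.TIExceptional
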