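import Cfsg.Agent.Lib.Blocks.PrimeSylow.Exceptional

/-!
# A family of vectors with Gram matrix `1 + e J` forms a star
-/

set_option autoImplicit false

namespace CfsgLib.TIExceptional

open CfsgLib.Blocks.PrimeSylow

variable {ι J : Type*} [Fintype ι] [Fintype J] [DecidableEq ι] [DecidableEq J]

/-- Integral vectors with Gram matrix `δ + e`, orthogonal to a positive vector, differ from a
common vector by one signed unit vector each. -/
theorem exists_star {e : ℤ} (c : J → ι → ℤ)
    (hgram : ∀ i j, ∑ x, c i x * c j x = (if i = j then 1 else 0) + e)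
    {d : ι → ℤ} (hd : ∀ x, 0 < d x) (hdeg : ∀ i, ∑ x, c i x * d x = 0)
    (ht2 : 2 ≤ Fintype.card J) :
    ∃ (θ : J → ι) (σ : ℤ) (Z : ι → ℤ), Function.Injective θ ∧ (σ = 1 ∨ σ = -1) ∧
      ∀ i x, c i x = Z x + σ * (if x = θ i then 1 else 0) := by
  classical
  obtain ⟨j₀⟩ : Nonempty J := Fintype.card_pos_iff.1 (by omega)
  obtain ⟨i₁, hi₁⟩ := Fintype.exists_ne_of_one_lt_card (by omega) j₀
  have : Nonempty ι := by
    by_contra hne
    rw [not_nonempty_iff] at hne
    have h1 := hgram i₁ i₁
    have h2 := hgram i₁ j₀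
    simp [hi₁] at h1 h2
    omega
  have hD : ∀ i, i ≠ j₀ → ∃ a b, a ≠ b ∧
      ∀ x, c i x - c j₀ x = (if x = a then 1 else 0) - if x = b then 1 else 0 := by
    intro i hi
    obtain ⟨a, b, hab, ha, hb, hz⟩ := exists_diff_of_norm_two (v := fun x => c i x - c j₀ x) (by
      have : ∀ x, (c i x - c j₀ x) ^ 2 = c i x * c i x - 2 * (c i x * c j₀ x) + c j₀ x * c j₀ x :=
        fun x => by ring
      rw [Finset.sum_congr rfl fun x _ => this x, Finset.sum_add_distrib, Finset.sum_sub_distrib,
        ← Finset.mul_sum, hgram, hgram, hgram, if_pos rfl, if_neg hi, if_pos rfl]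
      ring) hd (by
      simp only [sub_mul, Finset.sum_sub_distrib, hdeg, sub_self])
    refine ⟨a, b, hab, fun x => ?_⟩
    by_cases hxa : x = a
    · subst hxa; simp [ha, hab]
    · by_cases hxb : x = b
      · subst hxb; simp [hb, hxa]
      · simp [hz x hxa hxb, hxa, hxb]
  choose! a b hab hDab using hD
  have hpair : ∀ i j, i ≠ j₀ → j ≠ j₀ → i ≠ j →
      (a i = a j ∧ b i ≠ b j) ∨ (a i ≠ a j ∧ b i = b j) := by
    intro i j hi hj hij
    have h1 : ∑ x, (c i x - c j₀ x) * (c j x - c j₀ x) = 1 := by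
      simp only [sub_mul, mul_sub, Finset.sum_sub_distrib, hgram]
      simp [hij, hi, Ne.symm hj]
    simp only [hDab i hi, hDab j hj] at h1
    rw [sum_diff_mul] at h1
    have h2 := hab i hi
    have h3 := hab j hj
    by_cases e1 : a i = a j <;> by_cases e2 : b i = b j
    · exfalso
      rw [if_pos e1, if_pos e2, if_neg (fun e => h3 (e1.symm.trans e)),
        if_neg (fun e => h2 (e1.trans e.symm))] at h1
      omega
    · exact Or.inl ⟨e1, e2⟩
    · exact Or.inr ⟨e1, e2⟩
    · exfalso
      rw [if_neg e1, if_neg e2] at h1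
      split_ifs at h1 <;> omega
  obtain ⟨σ, θ, hσ, hθinj, hθ⟩ : ∃ (σ : ℤ) (θ : J → ι), (σ = 1 ∨ σ = -1) ∧ Function.Injective θ ∧
      ∀ i x, c i x - c j₀ x = σ * ((if x = θ i then 1 else 0) - if x = θ j₀ then 1 else 0) := by
    rcases exists_center hpair with h | h
    · refine ⟨-1, fun i => if i = j₀ then a i₁ else b i, Or.inr rfl, fun i j hij => ?_,
        fun i x => ?_⟩
      · simp only at hij
        split_ifs at hij with h1 h2 h2
        · rw [h1, h2]
        · exact absurd ((h i₁ j hi₁ h2).symm.trans hij) (hab j h2)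
        · exact absurd ((h i₁ i hi₁ h1).symm.trans hij.symm) (hab i h1)
        · by_contra hne
          rcases hpair i j h1 h2 hne with ⟨-, h3⟩ | ⟨h3, -⟩
          · exact h3 hij
          · exact h3 (h i j h1 h2)
      · by_cases hi : i = j₀
        · simp [hi]
        · rw [hDab i hi x, h i i₁ hi hi₁]
          simp [hi]
    · refine ⟨1, fun i => if i = j₀ then b i₁ else a i, Or.inl rfl, fun i j hij => ?_,
        fun i x => ?_⟩
      · simp only at hij
        split_ifs at hij with h1 h2 h2
        · rw [h1, h2]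
        · exact absurd (hij.symm.trans (h i₁ j hi₁ h2)) (hab j h2)
        · exact absurd (hij.trans (h i₁ i hi₁ h1)) (hab i h1)
        · by_contra hne
          rcases hpair i j h1 h2 hne with ⟨-, h3⟩ | ⟨h3, -⟩
          · exact h3 (h i j h1 h2)
          · exact h3 hij
      · by_cases hi : i = j₀
        · simp [hi]
        · rw [hDab i hi x, h i i₁ hi hi₁]
          simp [hi]
  obtain ⟨Z, hc⟩ : ∃ Z : ι → ℤ, ∀ i x, c i x = Z x + σ * (if x = θ i then 1 else 0) :=
    ⟨fun x => c j₀ x - σ * (if x = θ j₀ then 1 else 0), fun i x => by linarith [hθ i x]⟩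
  exact ⟨θ, σ, Z, hθinj, hσ, hc⟩

end CfsgLib.TIExceptional
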