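import Cfsg.Agent.Lib.Char.TIExceptional.Coef
import Cfsg.Agent.Lib.Char.TIExceptional.Star
import Cfsg.Agent.Lib.CharDegree.Basic
import Cfsg.Agent.Lib.Blocks.Union

/-!
# Characters with `χ(1)² < |P| - 1`

If the conjugates of `P` generate `G`, such an irreducible character is scalar on `P`.
-/

set_option autoImplicit false

open scoped ComplexConjugate

namespace CfsgLib.TIExceptional

open Cfsg CfsgLib.Char CfsgLib.Blocks CfsgLib.Blocks.PrimeSylow

variable {G : Type*} [Group G] [Fintype G] {p : ℕ} {P V : Subgroup G}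

namespace TISetup

variable (h : TISetup p P V)
include h

theorem norm_lchar [Fintype P] (l : IrrCharacter P) (x : P) : ‖(l : P → ℂ) x‖ = 1 := by
  obtain ⟨φ, hφ⟩ := exists_linear_of_degree_one (IsIrr.isCharacter l.2) (h.lchar_one l)
  refine Complex.norm_eq_one_of_pow_eq_one (n := Nat.card P) ?_ Nat.card_pos.ne'
  simp [hφ, ← Units.val_pow_eq_pow_val, ← map_pow, pow_card_eq_one']

variable [Fintype P] [Fintype V] [Fintype (IrrCharacter G)] [Fintype (IrrCharacter P)]

/-- The star of coefficient vectors of one character of `V`. -/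
theorem exists_star_cf (η : IrrCharacter V)
    (h2 : 2 * h.eIdx (η : V → ℂ) ≤ Nat.card P - 1) :
    ∃ (θ : IrrCharacter P → IrrCharacter G) (δ : ℤ) (Z : IrrCharacter G → ℤ)
      (Θ : Finset (IrrCharacter G)),
      (δ = 1 ∨ δ = -1) ∧ Θ.card * h.eIdx (η : V → ℂ) = Nat.card P - 1 ∧
      (∀ l, l ≠ trivChar P → θ l ∈ Θ) ∧ (∀ ξ ∈ Θ, ∃ l, l ≠ trivChar P ∧ θ l = ξ) ∧
      (∀ l μ, l ≠ trivChar P → μ ≠ trivChar P → (θ l = θ μ ↔ h.Rel (η : V → ℂ) l μ)) ∧
      ∀ l, l ≠ trivChar P → ∀ ξ, h.cf η ξ l = Z ξ + if ξ = θ l then δ else 0 := by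
  classical
  set e := h.eIdx (η : V → ℂ)
  have he : 0 < e := h.eIdx_pos η
  let S : Setoid {l : IrrCharacter P // l ≠ trivChar P} :=
    ⟨fun a b => h.Rel (η : V → ℂ) a b,
      ⟨fun a => (h.rel_equiv _).refl a, fun hab => (h.rel_equiv _).symm hab,
        fun hab hbc => (h.rel_equiv _).trans hab hbc⟩⟩
  let J := Quotient S
  have : Fintype J := Fintype.ofFinite J
  have hL : Fintype.card {l : IrrCharacter P // l ≠ trivChar P} = Nat.card P - 1 := by
    rw [Fintype.card_subtype_compl (fun l => l = trivChar P), ← Nat.card_eq_fintype_card,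
      h.card_lchar, Fintype.card_subtype_eq]
  have hJ : Fintype.card J * e = Nat.card P - 1 := by
    rw [← hL, ← Finset.card_univ (α := {l : IrrCharacter P // l ≠ trivChar P}),
      Finset.card_eq_sum_card_fiberwise (f := Quotient.mk S) (t := Finset.univ)
        fun _ _ => Finset.mem_univ _]
    have hfib : ∀ j : J, (Finset.univ.filter fun a => Quotient.mk S a = j).card = e := by
      intro j
      induction j using Quotient.inductionOn with
      | h b =>
        show _ = h.eIdx (η : V → ℂ)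
        rw [← h.card_orbit η b b.2]
        refine Finset.card_bij (fun a _ => (a : IrrCharacter P)) ?_ (fun a _ a' _ e => Subtype.ext e) ?_
        · intro a ha
          exact Finset.mem_filter.2 ⟨Finset.mem_univ _, Quotient.exact (Finset.mem_filter.1 ha).2⟩
        · intro l hl
          have hr := (Finset.mem_filter.1 hl).2
          exact ⟨⟨l, h.ne_trivChar_of_rel _ hr b.2⟩,
            Finset.mem_filter.2 ⟨Finset.mem_univ _, Quotient.sound (s := S) hr⟩, rfl⟩
    rw [Finset.sum_congr rfl fun j _ => hfib j, Finset.sum_const, Finset.card_univ, smul_eq_mul]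
  have ht2 : 2 ≤ Fintype.card J := by
    by_contra hlt
    push Not at hlt
    have : Fintype.card J * e ≤ e := Nat.le_trans (Nat.mul_le_mul_right e (by omega : Fintype.card J ≤ 1))
      (by rw [one_mul])
    omega
  let out : J → {l : IrrCharacter P // l ≠ trivChar P} := fun j => Quotient.out (s := S) j
  have hout : ∀ j, Quotient.mk S (out j) = j := fun j => Quotient.out_eq j
  let c : J → IrrCharacter G → ℤ := fun j ξ => h.cf η ξ (out j)
  have hgram : ∀ i j, ∑ ξ, c i ξ * c j ξ = (if i = j then 1 else 0) + (e : ℤ) := by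
    intro i j
    have hb : h.Rel (η : V → ℂ) (out i) (out j) ↔ i = j := by
      refine ⟨fun hr => ?_, fun hij => hij ▸ (h.rel_equiv _).refl _⟩
      rw [← hout i, ← hout j]
      exact Quotient.sound (s := S) hr
    rw [h.sum_cf_mul η _ _ (out i).2 (out j).2, if_congr hb rfl rfl]
  have hdeg : ∀ j, ∑ ξ, c j ξ * (charDegree (ξ : G → ℂ) : ℤ) = 0 := by
    intro j
    apply Int.cast_injective (α := ℂ)
    rw [Int.cast_sum, Int.cast_zero, ← h.sum_cf_degree η (out j)]
    exact Finset.sum_congr rfl fun ξ _ => by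
      rw [Int.cast_mul, Int.cast_natCast, ← apply_one_eq_charDegree]
  obtain ⟨θ₀, δ, Z, hinj, hδ, hc⟩ :=
    exists_star c hgram (fun ξ => Int.natCast_pos.2 (Blocks.charDegree_pos _)) hdeg ht2
  let θ : IrrCharacter P → IrrCharacter G := fun l =>
    if hl : l = trivChar P then trivChar G else θ₀ (Quotient.mk S ⟨l, hl⟩)
  have hθ : ∀ l (hl : l ≠ trivChar P), θ l = θ₀ (Quotient.mk S ⟨l, hl⟩) := fun l hl => dif_neg hl
  refine ⟨θ, δ, Z, Finset.univ.image θ₀, hδ, ?_, fun l hl => ?_, fun ξ hξ => ?_, fun l μ hl hμ => ?_,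
    fun l hl ξ => ?_⟩
  · rw [Finset.card_image_of_injective _ hinj, Finset.card_univ, hJ]
  · rw [hθ l hl]; exact Finset.mem_image_of_mem _ (Finset.mem_univ _)
  · obtain ⟨j, -, rfl⟩ := Finset.mem_image.1 hξ
    exact ⟨out j, (out j).2, by rw [hθ _ (out j).2, Subtype.coe_eta, hout]⟩
  · rw [hθ l hl, hθ μ hμ]
    exact ⟨fun e' => Quotient.exact (s := S) (hinj e'), fun hr => congrArg θ₀ (Quotient.sound (s := S) hr)⟩
  · have hr : h.Rel (η : V → ℂ) (out (Quotient.mk S ⟨l, hl⟩)) l :=
      Quotient.exact (s := S) (hout _)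
    have e1 : h.cf η ξ l = c (Quotient.mk S ⟨l, hl⟩) ξ :=
      (h.cf_eq_of_rel η (out _).2 hl hr ξ).symm
    rw [e1, hc, hθ l hl]
    split_ifs <;> simp

/-- Coefficients of a nonprincipal and the principal character of `V` are orthogonal. -/
theorem sum_cf_cross (η : IrrCharacter V) (hη : η ≠ trivChar V) (l μ : IrrCharacter P) :
    ∑ χ : IrrCharacter G, h.cf η χ l * h.cf (trivChar V) χ μ = 0 := by
  classical
  have hcross : ∀ x x' : G, x ∈ P → x ≠ 1 → x' ∈ P → ∑ χ : IrrCharacter G,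
      dval (χ : G → ℂ) x (η : V → ℂ) *
        conj (dval (χ : G → ℂ) x' ((trivChar V : IrrCharacter V) : V → ℂ)) = 0 := by
    intro x x' hx hx1 hx'
    simp only [dval, classInner, map_mul, map_sum, map_inv₀, map_natCast, Finset.sum_mul,
      Finset.mul_sum, Complex.conj_conj, trivChar_apply, map_one, mul_one]
    rw [Finset.sum_comm]
    simp only [Finset.sum_comm (s := (Finset.univ : Finset (IrrCharacter G)))]
    have hcol : ∀ v w : V, ∑ χ : IrrCharacter G, (χ : G → ℂ) (x * v) * conj ((χ : G → ℂ) (x' * w)) =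
        ∑ g : G, if g ∈ Subgroup.normalizer (P : Set G) ∧ g * x * g⁻¹ = x' ∧
          g * (v : G) * g⁻¹ = w then (1 : ℂ) else 0 := by
      intro v w
      rw [sum_irr_mul_conj, Finset.sum_boole]
      congr 2
      refine Finset.filter_congr fun g _ => ⟨fun e => h.fusion hx hx' hx1 v.2 w.2 e, ?_⟩
      rintro ⟨-, e1, e2⟩
      rw [← e1, ← e2]
      group
    calc _ = ∑ v : V, ∑ w : V, (Nat.card V : ℂ)⁻¹ ^ 2 * (conj ((η : V → ℂ) v) *
          ∑ χ : IrrCharacter G, (χ : G → ℂ) (x * v) * conj ((χ : G → ℂ) (x' * w))) := by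
          rw [Finset.sum_comm]
          refine Finset.sum_congr rfl fun v _ => Finset.sum_congr rfl fun w _ => ?_
          simp only [Finset.mul_sum]
          exact Finset.sum_congr rfl fun χ _ => by ring
      _ = ∑ g : G, (Nat.card V : ℂ)⁻¹ ^ 2 *
          if g ∈ Subgroup.normalizer (P : Set G) ∧ g * x * g⁻¹ = x' then
            ∑ v : V, conj ((η : V → ℂ) v) else 0 := by
          simp only [hcol, Finset.mul_sum]
          simp only [Finset.sum_comm (t := (Finset.univ : Finset G))]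
          refine Finset.sum_congr rfl fun g _ => ?_
          split_ifs with hg
          · rw [Finset.mul_sum]
            refine Finset.sum_congr rfl fun v _ => ?_
            rw [Finset.sum_eq_single ⟨g * v * g⁻¹, h.conj_mem hg.1 v.2⟩]
            · rw [if_pos ⟨hg.1, hg.2, rfl⟩]
              ring
            · intro w _ hw
              rw [if_neg fun e => hw (Subtype.ext e.2.2.symm)]
              ring
            · simp
          · refine (Finset.sum_eq_zero fun v _ => Finset.sum_eq_zero fun w _ => ?_).trans (mul_zero _).symm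
            rw [if_neg fun e => hg ⟨e.1, e.2.1⟩]
            ring
      _ = 0 := by
          have h1 := classInner_irr_of_ne (Ne.symm hη)
          simp only [classInner, trivChar_apply, one_mul, mul_eq_zero] at h1
          rw [h1.resolve_left (inv_ne_zero (Nat.cast_ne_zero.2 Nat.card_pos.ne'))]
          simp
  have hq0 : (Nat.card P : ℂ) ≠ 0 := Nat.cast_ne_zero.2 Nat.card_pos.ne'
  apply Int.cast_injective (α := ℂ)
  refine mul_left_cancel₀ (mul_ne_zero hq0 hq0) ?_
  push_cast
  rw [mul_zero, Finset.mul_sum]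
  calc ∑ χ : IrrCharacter G, (Nat.card P : ℂ) * Nat.card P *
        ((h.cf η χ l : ℂ) * (h.cf (trivChar V) χ μ : ℂ))
      = ∑ χ : IrrCharacter G, ((Nat.card P : ℂ) * h.cf η χ l) *
          conj ((Nat.card P : ℂ) * h.cf (trivChar V) χ μ) :=
        Finset.sum_congr rfl fun χ _ => by simp; ring
    _ = 0 := by
        simp only [h.cf_spec, map_sum, map_mul, Finset.sum_mul, Finset.mul_sum]
        rw [Finset.sum_comm]
        refine Finset.sum_eq_zero fun x _ => ?_
        rw [Finset.sum_comm]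
        refine Finset.sum_eq_zero fun y _ => ?_
        rw [Finset.sum_congr rfl fun χ _ => mul_mul_mul_comm _ _ _ _, ← Finset.sum_mul]
        by_cases hy : y = 1
        · simp [hy, h.lchar_one]
        · rw [hcross _ _ y.2 (fun e => hy (Subtype.ext e)) x.2, zero_mul]

/-- In a group generated by the conjugates of `P`, an irreducible character with
`χ(1)² + 1 < |P|` is scalar on `P`. -/
theorem norm_eq_of_small (hgen : ∀ H : Subgroup G, H.Normal → P ≤ H → H = ⊤) (χ : IrrCharacter G)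
    (hn : charDegree (χ : G → ℂ) ^ 2 + 1 < Nat.card P) {x : G} (hx : x ∈ P) :
    ‖(χ : G → ℂ) x‖ = (charDegree (χ : G → ℂ) : ℝ) := by
  classical
  have := Fintype.ofFinite (IrrCharacter V)
  set n := charDegree (χ : G → ℂ) with hndef
  have hn0 : 0 < n := Blocks.charDegree_pos χ
  by_cases hn1 : n = 1
  · obtain ⟨φ, hφ⟩ := exists_linear_of_degree_one (IsIrr.isCharacter χ.2) (by
      rw [apply_one_eq_charDegree, ← hndef, hn1, Nat.cast_one])
    rw [hn1, Nat.cast_one]
    refine Complex.norm_eq_one_of_pow_eq_one (n := Nat.card G) ?_ Nat.card_pos.ne'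
    simp [hφ, ← Units.val_pow_eq_pow_val, ← map_pow, pow_card_eq_one']
  have hexp : ∀ (ξ : IrrCharacter G) (y : P) (v : V), (ξ : G → ℂ) ((y : G) * v) =
      ∑ A : IrrCharacter V, (∑ l : IrrCharacter P, (h.mu A ξ l : ℂ) * (l : P → ℂ) y) * (A : V → ℂ) v :=
    fun ξ y v => by
      rw [h.apply_eq_sum (IsIrr.isClassFunction ξ.2) y.2 v]
      exact Finset.sum_congr rfl fun A _ => by rw [h.dval_eq_sum]
  have hdeg : ∀ ξ : IrrCharacter G, ∑ A : IrrCharacter V, charDegree (A : V → ℂ) *
      ∑ l : IrrCharacter P, h.mu A ξ l = charDegree (ξ : G → ℂ) := by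
    intro ξ
    apply Nat.cast_injective (R := ℂ)
    have e1 := hexp ξ 1 1
    simp only [Subgroup.coe_one, mul_one, h.lchar_one, apply_one_eq_charDegree] at e1
    rw [e1]
    push_cast
    exact Finset.sum_congr rfl fun A _ => mul_comm _ _
  have hsum_le : ∀ (ξ : IrrCharacter G) (A : IrrCharacter V),
      ∑ l : IrrCharacter P, h.mu A ξ l ≤ charDegree (ξ : G → ℂ) := fun ξ A => by
    rw [← hdeg ξ]
    exact (Nat.le_mul_of_pos_left _ (Blocks.charDegree_pos A)).trans
      (Finset.single_le_sum (f := fun A : IrrCharacter V => charDegree (A : V → ℂ) *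
        ∑ l : IrrCharacter P, h.mu A ξ l) (fun _ _ => Nat.zero_le _) (Finset.mem_univ A))
  have hNT : (Finset.univ.erase (trivChar P)).card = Nat.card P - 1 := by
    rw [Finset.card_erase_of_mem (Finset.mem_univ _), Finset.card_univ, ← Nat.card_eq_fintype_card,
      h.card_lchar]
  have hnot_all : ∀ (ξ : IrrCharacter G) (A : IrrCharacter V),
      charDegree (ξ : G → ℂ) < Nat.card P - 1 →
      ¬ ∀ l, l ≠ trivChar P → 1 ≤ h.mu A ξ l := by
    intro ξ A hξ hall
    have h1 : Nat.card P - 1 ≤ ∑ l : IrrCharacter P, h.mu A ξ l := by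
      rw [← hNT, Finset.card_eq_sum_ones]
      exact (Finset.sum_le_sum fun l hl => hall l (Finset.ne_of_mem_erase hl)).trans
        (Finset.sum_le_sum_of_subset (Finset.subset_univ _))
    have := hsum_le ξ A
    omega
  set M₁ := ∑ A : IrrCharacter V, ∑ l : IrrCharacter P, h.mu A χ l ^ 2 with hM₁
  set VF := ∑ A : IrrCharacter V, (∑ l : IrrCharacter P, h.mu A χ l) ^ 2 with hVF
  have hVFn : VF ≤ n ^ 2 := by
    refine (Finset.sum_sq_le_sq_sum_of_nonneg fun _ _ => Nat.zero_le _).trans (Nat.pow_le_pow_left ?_ 2)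
    rw [hndef, ← hdeg χ]
    exact Finset.sum_le_sum fun A _ => Nat.le_mul_of_pos_left _ (Blocks.charDegree_pos A)
  -- the case of a single linear constituent
  have hnorm : ∀ l₀ : IrrCharacter P, (∀ A l, l ≠ l₀ → h.mu A χ l = 0) →
      ‖(χ : G → ℂ) x‖ = (n : ℝ) := by
    intro l₀ hl₀
    have e1 := hexp χ ⟨x, hx⟩ 1
    simp only [Subgroup.coe_one, mul_one] at e1
    have e2 : ∀ A : IrrCharacter V, (∑ l : IrrCharacter P, (h.mu A χ l : ℂ) * (l : P → ℂ) ⟨x, hx⟩) =
        ((∑ l : IrrCharacter P, h.mu A χ l : ℕ) : ℂ) * (l₀ : P → ℂ) ⟨x, hx⟩ := fun A => by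
      rw [Nat.cast_sum, Finset.sum_mul]
      refine Finset.sum_congr rfl fun l _ => ?_
      by_cases hl : l = l₀
      · rw [hl]
      · rw [hl₀ A l hl]; simp
    have e3 : (χ : G → ℂ) x = (n : ℂ) * (l₀ : P → ℂ) ⟨x, hx⟩ := by
      rw [e1, hndef, ← hdeg χ, Nat.cast_sum, Finset.sum_mul]
      refine Finset.sum_congr rfl fun A _ => ?_
      rw [e2 A, apply_one_eq_charDegree]
      push_cast
      ring
    rw [e3, norm_mul, Complex.norm_natCast, h.norm_lchar, mul_one]
  by_cases hkill : ∀ A l, l ≠ trivChar P → h.mu A χ l = 0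
  · exact hnorm (trivChar P) hkill
  push Not at hkill
  obtain ⟨A₀, l₀, hl₀, hA₀⟩ := hkill
  set f := (Subgroup.centralizer (P : Set G)).relIndex (Subgroup.normalizer (P : Set G)) with hfdef
  have hf1 : 1 ≤ f := by
    rw [hfdef, ← h.eIdx_trivChar]
    exact h.eIdx_pos _
  have hA1 : ∀ A : IrrCharacter V, ∑ l : IrrCharacter P, h.mu A χ l ≤
      charDegree (A : V → ℂ) * ∑ l : IrrCharacter P, h.mu A χ l := fun A =>
    Nat.le_mul_of_pos_left _ (Blocks.charDegree_pos A)
  have hfsum : f ≤ ∑ A : IrrCharacter V, ∑ l : IrrCharacter P, h.mu A χ l := by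
    rw [hfdef, ← h.eIdx_trivChar, ← h.card_orbit (trivChar V) l₀ hl₀, Finset.sum_comm,
      Finset.card_eq_sum_ones]
    refine (Finset.sum_le_sum fun l hl => ?_).trans (Finset.sum_le_sum_of_subset (Finset.subset_univ _))
    obtain ⟨g, hg, e⟩ := (Finset.mem_filter.1 hl).2
    obtain rfl : l = ⟨_, h.isIrr_cjP l₀ hg.1⟩ := Subtype.ext e.symm
    refine le_trans ?_ (Finset.single_le_sum (f := fun A => h.mu A χ ⟨_, h.isIrr_cjP l₀ hg.1⟩)
      (fun _ _ => Nat.zero_le _) (Finset.mem_univ ⟨_, h.isIrr_cjV A₀ hg.1⟩))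
    show 1 ≤ h.mu _ χ _
    rw [h.mu_conj A₀ χ l₀ hg.1]
    omega
  have hfn : f ≤ n := by
    rw [hndef, ← hdeg χ]
    exact hfsum.trans (Finset.sum_le_sum fun A _ => hA1 A)
  have hfM : f ≤ M₁ :=
    hfsum.trans (Finset.sum_le_sum fun A _ => Finset.sum_le_sum fun l _ => Nat.le_self_pow two_ne_zero _)
  by_cases hM1 : M₁ ≤ 1
  · refine hnorm l₀ fun A l hl => ?_
    by_contra hne
    have h1 : 1 + 1 ≤ ∑ q ∈ ({(A₀, l₀), (A, l)} : Finset (IrrCharacter V × IrrCharacter P)),
        h.mu q.1 χ q.2 ^ 2 := by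
      rw [Finset.sum_pair fun e => hl (Prod.ext_iff.1 e).2.symm]
      exact add_le_add (Nat.one_le_pow _ _ (Nat.pos_of_ne_zero hA₀))
        (Nat.one_le_pow _ _ (Nat.pos_of_ne_zero hne))
    have h2 := h1.trans (Finset.sum_le_sum_of_subset (Finset.subset_univ _))
    rw [Fintype.sum_prod_type] at h2
    rw [hM₁] at hM1
    simp only at h2
    omega
  exfalso
  push Not at hM1
  set q := Nat.card P with hqdef
  have hn2 : 2 ≤ n := by omega
  have hnq : n ^ 2 + 1 < q := hn
  have hff : f ^ 2 ≤ n ^ 2 := Nat.pow_le_pow_left hfn 2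
  have hfE : ∀ A : IrrCharacter V, h.eIdx (A : V → ℂ) ≤ f := fun A =>
    Nat.le_of_dvd (by omega) (h.eIdx_dvd A)
  have h2E : ∀ A : IrrCharacter V, 2 * h.eIdx (A : V → ℂ) ≤ q - 1 := fun A => by
    have := hfE A
    have : 2 * n ≤ n ^ 2 := by rw [sq]; exact Nat.mul_le_mul_right n hn2
    omega
  have hbig : ∀ (A : IrrCharacter V) (t : ℕ), t * h.eIdx (A : V → ℂ) = q - 1 → f + 1 ≤ t := by
    intro A t ht
    by_contra hlt
    push Not at hlt
    have h1 : t * h.eIdx (A : V → ℂ) ≤ f * f := Nat.mul_le_mul (by omega) (hfE A)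
    rw [← sq] at h1
    omega
  -- the principal star
  obtain ⟨θ, δ, Z, Θ, hδ, hΘc, hθΘ, hΘθ, hθrel, hcf⟩ := h.exists_star_cf (trivChar V) (h2E _)
  rw [h.eIdx_trivChar, ← hfdef] at hΘc
  have hΘf : f + 1 ≤ Θ.card := hbig (trivChar V) _ (by rw [h.eIdx_trivChar, ← hfdef, hΘc])
  have htmu : ∀ A l, h.mu A (trivChar G) l =
      if A = trivChar V ∧ l = trivChar P then 1 else 0 := by
    intro A l
    apply Nat.cast_injective (R := ℂ)
    rw [← h.mu_spec]
    have e1 : (fun y : P => dval ((trivChar G : IrrCharacter G) : G → ℂ) (y : G) (A : V → ℂ)) =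
        fun y : P => classInner ((trivChar V : IrrCharacter V) : V → ℂ) (A : V → ℂ) *
          ((trivChar P : IrrCharacter P) : P → ℂ) y := funext fun y => by
      rw [trivChar_apply, mul_one, dval]
      exact congrArg (fun F : V → ℂ => classInner F (A : V → ℂ)) (funext fun v => by
        rw [trivChar_apply, trivChar_apply])
    rw [e1, show (fun y : P => classInner ((trivChar V : IrrCharacter V) : V → ℂ) (A : V → ℂ) *
          ((trivChar P : IrrCharacter P) : P → ℂ) y) =
        classInner ((trivChar V : IrrCharacter V) : V → ℂ) (A : V → ℂ) •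
          ((trivChar P : IrrCharacter P) : P → ℂ) from rfl, classInner_smul_left, classInner_irr,
      classInner_irr]
    by_cases hA : A = trivChar V <;> by_cases hl : l = trivChar P <;>
      simp [hA, hl, eq_comm (a := trivChar V), eq_comm (a := trivChar P)]
  have htcf : ∀ l, l ≠ trivChar P → h.cf (trivChar V) (trivChar G) l = -1 := fun l hl => by
    rw [cf, htmu, htmu, if_neg (fun e => hl e.2), if_pos ⟨rfl, rfl⟩]
    simp
  obtain ⟨l₁, hl₁, hnl₁⟩ : ∃ l₁, l₁ ≠ trivChar P ∧ θ l₁ ≠ θ l₀ := by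
    by_contra hcon
    push Not at hcon
    have : Θ.card ≤ 1 := Finset.card_le_one.2 fun a ha b hb => by
      obtain ⟨la, hla, rfl⟩ := hΘθ a ha
      obtain ⟨lb, hlb, rfl⟩ := hΘθ b hb
      rw [hcon la hla, hcon lb hlb]
    omega
  have htΘ : trivChar G ∉ Θ := by
    intro hmem
    obtain ⟨l, hl, e⟩ := hΘθ _ hmem
    obtain ⟨l', hl', hne⟩ : ∃ l', l' ≠ trivChar P ∧ θ l' ≠ θ l := by
      by_cases h' : θ l₁ = θ l
      · exact ⟨l₀, hl₀, fun e' => hnl₁ (h'.trans e'.symm)⟩
      · exact ⟨l₁, hl₁, h'⟩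
    have h1 := hcf l hl (trivChar G)
    have h2 := hcf l' hl' (trivChar G)
    rw [htcf l hl, if_pos e.symm] at h1
    rw [htcf l' hl', if_neg (fun e' => hne (e'.symm.trans e.symm))] at h2
    omega
  have hZt : Z (trivChar G) = -1 := by
    have h1 := hcf l₀ hl₀ (trivChar G)
    rw [htcf l₀ hl₀, if_neg fun e => htΘ (by rw [e]; exact hθΘ l₀ hl₀)] at h1
    omega
  have hnorm2 : ∀ l, l ≠ trivChar P → ∑ ξ, Z ξ ^ 2 + 2 * δ * Z (θ l) = f := by
    intro l hl
    have h1 := h.sum_cf_mul (trivChar V) l l hl hl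
    rw [if_pos ((h.rel_equiv _).refl l), h.eIdx_trivChar, ← hfdef,
      Finset.sum_congr rfl fun ξ _ => show h.cf (trivChar V) ξ l * h.cf (trivChar V) ξ l =
        Z ξ ^ 2 + if ξ = θ l then 2 * δ * Z ξ + 1 else 0 by
          rw [hcf l hl]
          have hδ2 : δ * δ = 1 := by rcases hδ with rfl | rfl <;> rfl
          split_ifs
          · linear_combination hδ2
          · ring,
      Finset.sum_add_distrib, Finset.sum_ite_eq' Finset.univ (θ l), if_pos (Finset.mem_univ _)] at h1
    linarith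
  set z := Z (θ l₀) with hzdef
  have hzall : ∀ ξ ∈ Θ, Z ξ = z := fun ξ hξ => by
    obtain ⟨l, hl, rfl⟩ := hΘθ ξ hξ
    have h1 := hnorm2 l hl
    have h2 := hnorm2 l₀ hl₀
    rcases hδ with rfl | rfl <;> linarith
  set R := (Finset.univ \ insert (trivChar G) Θ) with hR
  have hsplit : ∑ ξ, Z ξ ^ 2 = ∑ ξ ∈ R, Z ξ ^ 2 + (1 + (Θ.card : ℤ) * z ^ 2) := by
    rw [hR, ← Finset.sum_sdiff (Finset.subset_univ (insert (trivChar G) Θ)),
      Finset.sum_insert htΘ, hZt, show ∑ ξ ∈ Θ, Z ξ ^ 2 = ∑ _ξ ∈ Θ, z ^ 2 from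
        Finset.sum_congr rfl fun ξ hξ => by rw [hzall ξ hξ],
      Finset.sum_const, nsmul_eq_mul]
    ring
  have hz : z = 0 := by
    by_contra hz0
    have h1 := hnorm2 l₀ hl₀
    rw [hsplit, ← hzdef] at h1
    have hR0 : (0 : ℤ) ≤ ∑ ξ ∈ R, Z ξ ^ 2 := Finset.sum_nonneg fun ξ _ => sq_nonneg _
    have hδz : -(2 * δ * z) ≤ 2 * |z| := by
      rcases hδ with rfl | rfl <;> linarith [neg_le_abs z, le_abs_self z]
    have hz1 : (1 : ℤ) ≤ |z| := Int.one_le_abs hz0
    have hzz : z ^ 2 = |z| ^ 2 := (sq_abs z).symm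
    have hT : (f : ℤ) + 1 ≤ Θ.card := by exact_mod_cast hΘf
    have habs : |z| = 1 := by
      by_contra hne
      have h2z : (2 : ℤ) ≤ |z| := by omega
      have hf1' : (1 : ℤ) ≤ f := by exact_mod_cast hf1
      have h4 : (4 : ℤ) ≤ |z| ^ 2 := by nlinarith
      rw [hzz] at h1
      linarith [mul_le_mul_of_nonneg_right hT (sq_nonneg |z|),
        mul_le_mul_of_nonneg_left h4 (Nat.cast_nonneg f : (0 : ℤ) ≤ f), sq_nonneg (|z| - 1),
        show (|z| - 1) ^ 2 = |z| ^ 2 - 2 * |z| + 1 by ring,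
        show ((f : ℤ) + 1) * |z| ^ 2 = f * |z| ^ 2 + |z| ^ 2 by ring]
    have hz2 : z ^ 2 = 1 := by rw [hzz, habs]; norm_num
    rw [hz2] at h1
    rw [habs] at hδz
    have hRz : ∑ ξ ∈ R, Z ξ ^ 2 = 0 := by linarith
    have hteq : (Θ.card : ℤ) = f + 1 := by linarith
    have hzδ : δ * z = -1 := by linarith
    have hRzero : ∀ ξ ∈ R, Z ξ = 0 := fun ξ hξ =>
      pow_eq_zero_iff two_ne_zero |>.1 ((Finset.sum_eq_zero_iff_of_nonneg fun ξ _ => sq_nonneg _).1 hRz ξ hξ)
    have hdegrel : ∀ l, l ≠ trivChar P → (-1 : ℤ) +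
        z * ∑ ξ ∈ Θ, (charDegree (ξ : G → ℂ) : ℤ) + δ * charDegree (θ l : G → ℂ) = 0 := by
      intro l hl
      have h3 := h.sum_cf_degree (trivChar V) l
      apply Int.cast_injective (α := ℂ)
      rw [Int.cast_zero, ← h3, ← Finset.sum_sdiff (Finset.subset_univ (insert (trivChar G) Θ)),
        Finset.sum_insert htΘ]
      have e1 : ∀ ξ, ξ ∉ Θ → h.cf (trivChar V) ξ l = Z ξ := fun ξ hξ => by
        rw [hcf l hl, if_neg fun e => hξ (by rw [e]; exact hθΘ l hl), add_zero]
      rw [Finset.sum_eq_zero (s := Finset.univ \ insert (trivChar G) Θ) fun ξ hξ => by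
        rw [e1 ξ fun e => (Finset.mem_sdiff.1 hξ).2 (Finset.mem_insert_of_mem e), hRzero ξ hξ]; simp,
        zero_add, htcf l hl,
        show ∑ ξ ∈ Θ, (h.cf (trivChar V) ξ l : ℂ) * (ξ : G → ℂ) 1 =
          ∑ ξ ∈ Θ, ((z : ℂ) * (charDegree (ξ : G → ℂ) : ℂ) +
            if ξ = θ l then (δ : ℂ) * (charDegree (ξ : G → ℂ) : ℂ) else 0) from
          Finset.sum_congr rfl fun ξ hξ => by
            rw [hcf l hl, hzall ξ hξ, apply_one_eq_charDegree]
            split_ifs <;> push_cast <;> ring,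
        Finset.sum_add_distrib, Finset.sum_ite_eq' Θ (θ l), if_pos (hθΘ l hl), ← Finset.mul_sum,
        trivChar_apply]
      push_cast
      ring
    have hsame : ∀ ξ ∈ Θ, (charDegree (ξ : G → ℂ) : ℤ) = charDegree (θ l₀ : G → ℂ) := fun ξ hξ => by
      obtain ⟨l, hl, rfl⟩ := hΘθ ξ hξ
      have h4 := hdegrel l hl
      have h5 := hdegrel l₀ hl₀
      rcases hδ with rfl | rfl <;> linarith
    have h6 := hdegrel l₀ hl₀
    rw [Finset.sum_congr rfl hsame, Finset.sum_const, nsmul_eq_mul, hteq] at h6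
    have hD : (1 : ℤ) ≤ charDegree (θ l₀ : G → ℂ) := by exact_mod_cast Blocks.charDegree_pos (θ l₀)
    have hf' : f = 1 := by
      rcases hδ with rfl | rfl
      · have hz' : z = -1 := by linarith
        rw [hz'] at h6
        nlinarith
      · have hz' : z = 1 := by linarith
        rw [hz'] at h6
        nlinarith
    have hT2 : Θ.card = 2 := by omega
    rw [hT2, hf', mul_one] at hΘc
    have : 4 ≤ n ^ 2 := Nat.pow_le_pow_left hn2 2
    omega
  rw [hz] at hzall
  -- no other star meets the principal coefficients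
  have hother : ∀ A : IrrCharacter V, A ≠ trivChar V → ∀ ξ : IrrCharacter G, ∀ l μ,
      l ≠ trivChar P → μ ≠ trivChar P → h.mu A ξ l ≠ h.mu A ξ μ →
      ∀ k, k ≠ trivChar P → h.cf (trivChar V) ξ k = 0 := by
    intro A hA ξ l μ hl hμ hne k hk
    obtain ⟨θA, δA, ZA, ΘA, hδA, hΘAc, hθAΘ, hΘAθ, -, hcfA⟩ := h.exists_star_cf A (h2E A)
    have hΘAf : f + 1 ≤ ΘA.card := hbig A _ hΘAc
    have hξ : ξ ∈ ΘA := by
      by_contra hξ
      refine hne ?_
      have h1 := hcfA l hl ξ
      have h2 := hcfA μ hμ ξ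
      rw [if_neg fun e => hξ (by rw [e]; exact hθAΘ l hl)] at h1
      rw [if_neg fun e => hξ (by rw [e]; exact hθAΘ μ hμ)] at h2
      rw [cf] at h1 h2
      omega
    have hconst : ∀ a ∈ ΘA, h.cf (trivChar V) a k = h.cf (trivChar V) ξ k := by
      intro a ha
      obtain ⟨la, hla, rfl⟩ := hΘAθ a ha
      obtain ⟨lx, hlx, rfl⟩ := hΘAθ ξ hξ
      have h1 := h.sum_cf_cross A hA la k
      have h2 := h.sum_cf_cross A hA lx k
      simp only [hcfA la hla, hcfA lx hlx, add_mul, Finset.sum_add_distrib, ite_mul, zero_mul,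
        Finset.sum_ite_eq', Finset.mem_univ, if_true] at h1 h2
      rcases hδA with rfl | rfl <;> linarith
    have htA : trivChar G ∉ ΘA := by
      intro hmem
      obtain ⟨la, hla, e⟩ := hΘAθ _ hmem
      obtain ⟨b, hb, hba⟩ : ∃ b ∈ ΘA, b ≠ trivChar G := Finset.exists_mem_ne (by omega) _
      obtain ⟨lb, hlb, rfl⟩ := hΘAθ b hb
      have h1 := hcfA la hla (trivChar G)
      have h2 := hcfA lb hlb (trivChar G)
      rw [cf, htmu, htmu, if_neg (fun e' => hA e'.1), if_neg (fun e' => hA e'.1), if_pos e.symm] at h1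
      rw [cf, htmu, htmu, if_neg (fun e' => hA e'.1), if_neg (fun e' => hA e'.1),
        if_neg (Ne.symm hba)] at h2
      omega
    have h3 := h.sum_cf_mul (trivChar V) k k hk hk
    rw [if_pos ((h.rel_equiv _).refl k), h.eIdx_trivChar, ← hfdef] at h3
    have h4 : ∑ a ∈ insert (trivChar G) ΘA,
        h.cf (trivChar V) a k * h.cf (trivChar V) a k ≤ 1 + (f : ℤ) := h3 ▸
      Finset.sum_le_univ_sum_of_nonneg fun a => mul_self_nonneg _
    rw [Finset.sum_insert htA, htcf k hk, Finset.sum_congr rfl fun a ha => by rw [hconst a ha],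
      Finset.sum_const, nsmul_eq_mul] at h4
    by_contra hc0
    have h5 : (1 : ℤ) ≤ h.cf (trivChar V) ξ k * h.cf (trivChar V) ξ k := by
      rcases lt_or_gt_of_ne hc0 with h' | h' <;> nlinarith
    have h6 : (f : ℤ) + 1 ≤ ΘA.card := by exact_mod_cast hΘAf
    nlinarith
  -- the product
  obtain ⟨k, hk⟩ := IsChar.exists_sum
    (IsChar.mul (IsIrr.isCharacter χ.2) (IsChar.conj (IsIrr.isCharacter χ.2)))
  have hkv : ∀ g, (χ : G → ℂ) g * conj ((χ : G → ℂ) g) =
      ∑ ξ : IrrCharacter G, (k ξ : ℂ) * (ξ : G → ℂ) g := fun g => by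
    have := congrFun hk g
    simpa [Finset.sum_apply] using this
  have hdval : ∀ y : P, dval (fun g => (χ : G → ℂ) g * conj ((χ : G → ℂ) g)) (y : G)
      ((trivChar V : IrrCharacter V) : V → ℂ) =
      ∑ A : IrrCharacter V, (∑ l : IrrCharacter P, (h.mu A χ l : ℂ) * (l : P → ℂ) y) *
        conj (∑ l : IrrCharacter P, (h.mu A χ l : ℂ) * (l : P → ℂ) y) := by
    intro y
    have e1 : (fun v : V => (χ : G → ℂ) ((y : G) * v)) = ∑ A : IrrCharacter V,
        (∑ l : IrrCharacter P, (h.mu A χ l : ℂ) * (l : P → ℂ) y) • (A : V → ℂ) := funext fun v => by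
      rw [hexp, Finset.sum_apply]; simp
    rw [← IsChar.classInner_self, ← e1]
    simp [dval, classInner, trivChar_apply]
  have hM1eq : M₁ = ∑ ξ : IrrCharacter G, k ξ * h.mu (trivChar V) ξ (trivChar P) := by
    apply Nat.cast_injective (R := ℂ)
    push_cast [hM₁]
    have e1 : classInner (fun y : P => dval (fun g => (χ : G → ℂ) g * conj ((χ : G → ℂ) g)) (y : G)
        ((trivChar V : IrrCharacter V) : V → ℂ)) ((trivChar P : IrrCharacter P) : P → ℂ) =
        ∑ A : IrrCharacter V, ∑ l : IrrCharacter P, ((h.mu A χ l : ℂ)) ^ 2 := by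
      calc _ = ∑ A : IrrCharacter V,
            classInner (∑ l : IrrCharacter P, (h.mu A χ l : ℂ) • (l : P → ℂ))
              (∑ l : IrrCharacter P, (h.mu A χ l : ℂ) • (l : P → ℂ)) := by
            simp only [classInner, hdval, trivChar_apply, map_one, mul_one, Finset.mul_sum]
            rw [Finset.sum_comm]
            simp [Finset.sum_apply]
        _ = _ := Finset.sum_congr rfl fun A _ => by
            rw [IsChar.classInner_self]
            exact Finset.sum_congr rfl fun l _ => by rw [map_natCast, sq]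
    rw [← e1]
    have e2 : (fun y : P => dval (fun g => (χ : G → ℂ) g * conj ((χ : G → ℂ) g)) (y : G)
        ((trivChar V : IrrCharacter V) : V → ℂ)) = ∑ ξ : IrrCharacter G, (k ξ : ℂ) •
          fun y : P => dval (ξ : G → ℂ) (y : G) ((trivChar V : IrrCharacter V) : V → ℂ) := funext fun y => by
      simp only [dval, classInner, hkv, Finset.sum_apply, Pi.smul_apply, smul_eq_mul, Finset.mul_sum,
        Finset.sum_mul]
      rw [Finset.sum_comm]
      exact Finset.sum_congr rfl fun ξ _ => Finset.sum_congr rfl fun v _ => by ring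
    rw [e2, classInner_sum_left]
    exact Finset.sum_congr rfl fun ξ _ => by rw [classInner_smul_left, h.mu_spec]
  have hVFeq : VF = ∑ ξ : IrrCharacter G, k ξ * ∑ l : IrrCharacter P, h.mu (trivChar V) ξ l := by
    apply Nat.cast_injective (R := ℂ)
    push_cast [hVF]
    have e1 := hdval 1
    simp only [h.lchar_one, mul_one, map_sum, map_natCast] at e1
    rw [Finset.sum_congr rfl fun A _ => sq _, ← e1]
    simp only [dval, classInner, hkv, Finset.mul_sum, Finset.sum_mul]
    rw [Finset.sum_comm]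
    refine Finset.sum_congr rfl fun ξ _ => ?_
    have e2 := h.dval_eq_sum (trivChar V) ξ 1
    simp only [h.lchar_one, mul_one] at e2
    conv_rhs => rw [← Finset.mul_sum, ← e2]
    simp only [dval, classInner, Finset.mul_sum]
    exact Finset.sum_congr rfl fun v _ => by ring
  have hkt : k (trivChar G) = 1 := by
    apply Nat.cast_injective (R := ℂ)
    have e1 : classInner (∑ ξ : IrrCharacter G, (k ξ : ℂ) • (ξ : G → ℂ))
        ((trivChar G : IrrCharacter G) : G → ℂ) = (k (trivChar G) : ℂ) :=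
      classInner_sum_irr (fun ξ => (k ξ : ℂ)) _
    rw [Nat.cast_one, ← e1, ← classInner_irr_self χ]
    simp only [classInner, trivChar_apply, map_one, mul_one, Finset.sum_apply, Pi.smul_apply,
      smul_eq_mul, ← hkv]
  obtain ⟨ξ, hξt, hξk, hξm⟩ : ∃ ξ, ξ ≠ trivChar G ∧ k ξ ≠ 0 ∧
      h.mu (trivChar V) ξ (trivChar P) ≠ 0 := by
    by_contra hcon
    push Not at hcon
    rw [hM1eq, Finset.sum_eq_single (trivChar G) (fun ξ _ hξ => ?_)
      (fun hi => absurd (Finset.mem_univ _) hi), hkt, htmu, if_pos ⟨rfl, rfl⟩] at hM1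
    · omega
    · by_cases hk0 : k ξ = 0
      · rw [hk0, zero_mul]
      · rw [hcon ξ hξ hk0, mul_zero]
  have hξdeg : charDegree (ξ : G → ℂ) < q - 1 := by
    have e1 := hkv 1
    rw [apply_one_eq_charDegree χ, ← hndef, map_natCast, ← Nat.cast_mul] at e1
    simp only [apply_one_eq_charDegree, ← Nat.cast_mul, ← Nat.cast_sum, Nat.cast_inj] at e1
    have h2 : charDegree (ξ : G → ℂ) ≤ n * n := by
      rw [e1]
      exact (Nat.le_mul_of_pos_left _ (Nat.pos_of_ne_zero hξk)).trans
        (Finset.single_le_sum (f := fun ξ => k ξ * charDegree (ξ : G → ℂ))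
          (fun _ _ => Nat.zero_le _) (Finset.mem_univ ξ))
    rw [← sq] at h2
    omega
  -- a constituent with a trivial and a nontrivial part
  obtain ⟨A, l, μ, hl, hμ, hlμ⟩ : ∃ A l μ, l ≠ trivChar P ∧ μ ≠ trivChar P ∧
      h.mu A ξ l ≠ h.mu A ξ μ := by
    by_contra hcon
    push Not at hcon
    have hzero : ∀ A l, l ≠ trivChar P → h.mu A ξ l = 0 := fun A l hl => by
      by_contra hne
      exact hnot_all ξ A hξdeg fun μ hμ => by
        have := hcon A l μ hl hμ
        omega
    refine hξt (irr_ext fun g => ?_)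
    have hker : P ≤ CharDegree.kerSubgroup ξ := fun y hy => by
      rw [CharDegree.mem_kerSubgroup]
      have e1 := hexp ξ ⟨y, hy⟩ 1
      have e2 := hexp ξ 1 1
      simp only [Subgroup.coe_one, mul_one] at e1 e2
      rw [e1, e2]
      refine Finset.sum_congr rfl fun A _ => congrArg (· * _) (Finset.sum_congr rfl fun l _ => ?_)
      by_cases hl : l = trivChar P
      · rw [hl, trivChar_apply, trivChar_apply]
      · rw [hzero A l hl]; simp
    have htop := hgen _ (CharDegree.kerSubgroup_normal ξ) hker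
    have hconst : ∀ g, (ξ : G → ℂ) g = (ξ : G → ℂ) 1 := fun g =>
      CharDegree.mem_kerSubgroup.1 (htop ▸ Subgroup.mem_top g)
    by_contra hne
    have h7 := classInner_irr_of_ne (χ := ξ) (ψ := trivChar G) fun e => hne (by rw [e])
    simp [classInner, trivChar_apply, hconst] at h7
    exact IsIrr.apply_one_ne_zero ξ.2 h7
  by_cases hA : A = trivChar V
  swap
  · refine hnot_all ξ (trivChar V) hξdeg fun k' hk' => ?_
    have := hother A hA ξ l μ hl hμ hlμ k' hk'
    rw [cf] at this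
    omega
  subst hA
  have hξΘ : ξ ∈ Θ := by
    by_contra hξΘ
    refine hlμ ?_
    have h1 := hcf l hl ξ
    have h2 := hcf μ hμ ξ
    rw [if_neg fun e => hξΘ (by rw [e]; exact hθΘ l hl)] at h1
    rw [if_neg fun e => hξΘ (by rw [e]; exact hθΘ μ hμ)] at h2
    rw [cf] at h1 h2
    omega
  obtain ⟨ν, hν, rfl⟩ := hΘθ ξ hξΘ
  have hval : ∀ k', k' ≠ trivChar P → (h.mu (trivChar V) (θ ν) k' : ℤ) =
      (h.mu (trivChar V) (θ ν) (trivChar P) : ℤ) + if θ ν = θ k' then δ else 0 := by
    intro k' hk'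
    have h1 := hcf k' hk' (θ ν)
    rw [hzall _ hξΘ, zero_add, cf] at h1
    linarith
  have hδ' : δ = -1 := by
    rcases hδ with hd | hd
    · exfalso
      refine hnot_all _ (trivChar V) hξdeg fun k' hk' => ?_
      have := hval k' hk'
      rw [hd] at this
      split_ifs at this <;> omega
    · exact hd
  have hcount : q - 1 - f + h.mu (trivChar V) (θ ν) (trivChar P) ≤
      ∑ k' : IrrCharacter P, h.mu (trivChar V) (θ ν) k' := by
    rw [← Finset.sum_erase_add _ _ (Finset.mem_univ (trivChar P))]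
    refine Nat.add_le_add_right ?_ _
    set O := Finset.univ.filter fun k' => h.Rel ((trivChar V : IrrCharacter V) : V → ℂ) k' ν
    calc q - 1 - f = (Finset.univ.erase (trivChar P)).card - O.card := by
          rw [hNT, h.card_orbit (trivChar V) ν hν, h.eIdx_trivChar]
      _ ≤ (Finset.univ.erase (trivChar P) \ O).card := Finset.le_card_sdiff _ _
      _ = ∑ _k' ∈ Finset.univ.erase (trivChar P) \ O, 1 := Finset.card_eq_sum_ones _
      _ ≤ ∑ k' ∈ Finset.univ.erase (trivChar P) \ O, h.mu (trivChar V) (θ ν) k' := by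
          refine Finset.sum_le_sum fun k' hk' => ?_
          obtain ⟨h1, h2⟩ := Finset.mem_sdiff.1 hk'
          have hk1 := Finset.ne_of_mem_erase h1
          have := hval k' hk1
          rw [if_neg fun e => h2 (Finset.mem_filter.2 ⟨Finset.mem_univ _,
            (hθrel k' ν hk1 hν).1 e.symm⟩)] at this
          omega
      _ ≤ _ := Finset.sum_le_sum_of_subset Finset.sdiff_subset
  have hfinal : M₁ + (q - 1 - f) ≤ VF := by
    rw [hM1eq, hVFeq, ← Finset.add_sum_erase _ _ (Finset.mem_univ (θ ν)),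
      ← Finset.add_sum_erase _ _ (Finset.mem_univ (θ ν)), add_right_comm]
    refine add_le_add ?_ (Finset.sum_le_sum fun ξ _ => Nat.mul_le_mul_left _
      (Finset.single_le_sum (fun _ _ => Nat.zero_le _) (Finset.mem_univ _)))
    calc k (θ ν) * h.mu (trivChar V) (θ ν) (trivChar P) + (q - 1 - f)
        ≤ k (θ ν) * h.mu (trivChar V) (θ ν) (trivChar P) + k (θ ν) * (q - 1 - f) :=
          Nat.add_le_add_left (Nat.le_mul_of_pos_left _ (Nat.pos_of_ne_zero hξk)) _
      _ = k (θ ν) * (q - 1 - f + h.mu (trivChar V) (θ ν) (trivChar P)) := by ring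
      _ ≤ _ := Nat.mul_le_mul_left _ hcount
  omega

end TISetup

end CfsgLib.TIExceptional
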